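import Groth.Agent.InvDescN.Indep
import Groth.Agent.QCoh.Submod
import Groth.Agent.DivX.MeroMod

/-!
# Descent of invertible sheaves trivial over maximal points
-/

set_option autoImplicit false
set_option backward.isDefEq.respectTransparency false
set_option backward.isDefEq.respectTransparency.types false

universe u

open CategoryTheory CategoryTheory.Limits AlgebraicGeometry TopologicalSpace IsLocalRing

noncomputable section

namespace Groth.Agent.InvDescN

open Groth.Agent InvX AModX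

variable {X Y : Scheme.{u}} (f : X ⟶ Y) [Flat f] [Surjective f] (hY : Pi1.IsNormalScheme Y) {L : X.Modules}
  (T : ∀ η : Y, (∀ z, z ⤳ η → z = η) →
    ((Scheme.Modules.pullback (f.fiberι η)).obj L ≅ Coh.structureModule (f.fiber η)))

/-- The trivialisation over the generic point of a chart. -/
abbrev trivC (c : Chart Y) : Triv f c L := T c.η c.max

include hY in
theorem app_injective_of_surjective (U : Y.Opens) : Function.Injective (f.app U) := by
  intro a b h
  refine TopCat.Presheaf.section_ext Y.sheaf U a b fun y hy => ?_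
  obtain ⟨x, rfl⟩ := f.surjective y
  letI := (f.stalkMap x).hom.toAlgebra
  haveI : Module.FaithfullyFlat (Y.presheaf.stalk (f x)) (X.presheaf.stalk x) :=
    RingHom.faithfullyFlat_algebraMap_iff.mp (H23.FFDescent.faithfullyFlat_stalkMap f x)
  refine FaithfulSMul.algebraMap_injective (Y.presheaf.stalk (f x)) (X.presheaf.stalk x) ?_
  exact (f.germ_stalkMap_apply U x hy a).trans
    ((congrArg (X.presheaf.germ _ x hy) h).trans (f.germ_stalkMap_apply U x hy b).symm)

variable [IsLocallyNoetherian X] [IsLocallyNoetherian Y] (hL : PicF.IsInvertible L)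
  (hfib : ∀ y : Y, ringKrullDim (Y.presheaf.stalk y) = 1 → IsIntegral (f.fiber y))
  (hf : QuasiCompact f ∨ IsOpenMap f)

include hY hL hfib hf in
/-- Around each point there is a frame upstairs with ratio from the base. -/
theorem exists_base_frame (y : Y) :
    ∃ (c : Chart Y) (U : Y.Opens) (hU : U ≤ c.V) (p q : Γ(Y, c.V)) (τ : Γ(L, f ⁻¹ᵁ U)),
      y ∈ U ∧ p ≠ 0 ∧ q ≠ 0 ∧ IsFrame τ ∧ Rel (trivC f T c) p q (f.preimage_mono hU) τ := by
  obtain ⟨c, hyV, -⟩ := exists_chart hY y ⊤ trivial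
  obtain ⟨x₀, hx₀⟩ := f.surjective y
  obtain ⟨p, q, hp, hq, hgood⟩ := exists_good (trivC f T c) hY hL hfib (x := x₀) (hx₀ ▸ hyV)
  let G : Set X := {x | Good (trivC f T c) p q x}
  have hsame : ∀ x x' : X, f x' = f x → x ∈ G → x' ∈ G := fun x x' e hx => by
    have hxV : f x' ∈ c.V := by
      rw [e]
      obtain ⟨O, hO, -, hxO, -⟩ := hx
      exact hO hxO
    obtain ⟨p', q', hp', hq', hgood'⟩ := exists_good (trivC f T c) hY hL hfib (x := x') hxV
    exact good_of_good (trivC f T c) hY hL hfib hp hq hp' hq' e hx hgood'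
  have hgen : ∀ x : X, f x ⤳ y → x ∈ G := fun x hx => by
    obtain ⟨x₁, hx₁, hfx₁⟩ := Flat.generalizingMap f (a := x₀) (b := f x) (hx₀.symm ▸ hx)
    exact hsame x₁ x hfx₁.symm (show x₁ ∈ G from
      (show x₁ ⤳ x₀ from hx₁).mem_open (isOpen_good (trivC f T c) p q) hgood)
  obtain ⟨U, hyU, hU⟩ : ∃ U : Y.Opens, y ∈ U ∧ ∀ z ∈ U, ∃ x ∈ G, f x = z := by
    rcases hf with hqc | hop
    · let E : Set X := (f ⁻¹ᵁ c.V : Set X) \ G
      have hE : ProCons.IsProConstructible E := ProConsLib.isProConstructible_of_isLocallyClosed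
        ((f ⁻¹ᵁ c.V).isOpen.isLocallyClosed.inter (isOpen_good _ p q).isClosed_compl.isLocallyClosed) fun W hW => by
          haveI : IsNoetherianRing Γ(X, W) := IsLocallyNoetherian.component_noetherian ⟨W, hW⟩
          haveI : NoetherianSpace ↥(W : Set X) := noetherianSpace_of_isAffineOpen W hW
          exact (noetherianSpace_set_iff (W : Set X)).1 inferInstance _ Set.inter_subset_right
      have hycl : y ∉ closure (f.base '' E) := fun h => by
        obtain ⟨x, hxE, hxy⟩ := ProConsLib.exists_specializes_of_mem_closure_image_scheme hE f h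
        exact hxE.2 (hgen x hxy)
      refine ⟨⟨(c.V : Set Y) \ closure (f.base '' E), c.V.isOpen.sdiff isClosed_closure⟩, ⟨hyV, hycl⟩,
        fun z hz => ?_⟩
      obtain ⟨x, rfl⟩ := f.surjective z
      exact ⟨x, by_contra fun h => hz.2 (subset_closure ⟨x, ⟨hz.1, h⟩, rfl⟩), rfl⟩
    · exact ⟨⟨f.base '' G, hop _ (isOpen_good _ p q)⟩, ⟨x₀, hgood, hx₀⟩, fun z ⟨w, hw, e⟩ => ⟨w, hw, e⟩⟩
  obtain ⟨τ, hτ, hrel⟩ := exists_glue (trivC f T c) hY hL hq
    (f.preimage_mono (inf_le_right : U ⊓ c.V ≤ c.V)) fun x hx => by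
      obtain ⟨x₁, hx₁, e⟩ := hU (f x) hx.1
      exact hsame x₁ x e.symm hx₁
  exact ⟨c, U ⊓ c.V, inf_le_right, p, q, τ, ⟨hyU, hyV⟩, hp, hq, hτ, hrel⟩

/-- Over `c.η`, the ratio of `σ` against the trivialisation comes from the base. -/
def MemAt (c : Chart Y) {U : Y.Opens} (σ : Γ(L, f ⁻¹ᵁ U)) : Prop :=
  ∃ (O : Y.Opens) (_ : c.η ∈ O) (hOU : O ≤ U) (r : Γ(Y, O)),
    psi (trivC f T c) (res L (f.preimage_mono hOU) σ) = K f c le_rfl r

omit [Flat f] [Surjective f] [IsLocallyNoetherian X] [IsLocallyNoetherian Y] in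
theorem memAt_congr {c c' : Chart Y} (e : c.η = c'.η) {U : Y.Opens} {σ : Γ(L, f ⁻¹ᵁ U)}
    (h : MemAt f T c σ) : MemAt f T c' σ := by
  obtain ⟨V, η, h1, h2, h3, h4, h5⟩ := c
  obtain ⟨V', η', h1', h2', h3', h4', h5'⟩ := c'
  simp only at e
  subst e
  exact h

/-- The sections whose ratio against the trivialisation comes from the base. -/
def descMem (U : Y.Opens) : Submodule Γ(Y, U) Γ((Scheme.Modules.pushforward f).obj L, U) where
  carrier := {σ | ∀ c : Chart Y, c.η ∈ U → MemAt f T c (show Γ(L, f ⁻¹ᵁ U) from σ)}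
  zero_mem' := fun c hc => ⟨U, hc, le_rfl, 0, by
    show psi (trivC f T c) (res L (f.preimage_mono (le_refl U)) (0 : Γ(L, f ⁻¹ᵁ U))) = K f c le_rfl (0 : Γ(Y, U))
    rw [map_zero, psi_zero, map_zero]⟩
  add_mem' := fun {σ τ} hσ hτ c hc => by
    obtain ⟨O, hO, hOU, r, hr⟩ := hσ c hc
    obtain ⟨O', hO', hOU', r', hr'⟩ := hτ c hc
    refine ⟨O ⊓ O', ⟨hO, hO'⟩, inf_le_left.trans hOU,
      Y.presheaf.map (homOfLE inf_le_left).op r + Y.presheaf.map (homOfLE inf_le_right).op r', ?_⟩
    show psi (trivC f T c) (res L _ ((show Γ(L, f ⁻¹ᵁ U) from σ) + (show Γ(L, f ⁻¹ᵁ U) from τ))) = _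
    rw [map_add, psi_add, map_add]
    have e1 := congrArg ((f.fiber c.η).presheaf.map
      (homOfLE ((f.fiberι c.η).preimage_mono (f.preimage_mono (inf_le_left : O ⊓ O' ≤ O)))).op) hr
    have e2 := congrArg ((f.fiber c.η).presheaf.map
      (homOfLE ((f.fiberι c.η).preimage_mono (f.preimage_mono (inf_le_right : O ⊓ O' ≤ O')))).op) hr'
    rw [← psi_res _ (f.preimage_mono (inf_le_left : O ⊓ O' ≤ O)), res_res, res_K f c (f.preimage_mono (inf_le_left : O ⊓ O' ≤ O))] at e1
    rw [← psi_res _ (f.preimage_mono (inf_le_right : O ⊓ O' ≤ O')), res_res, res_K f c (f.preimage_mono (inf_le_right : O ⊓ O' ≤ O'))] at e2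
    rw [e1, e2, K_res, K_res]
  smul_mem' := fun a σ hσ c hc => by
    obtain ⟨O, hO, hOU, r, hr⟩ := hσ c hc
    refine ⟨O, hO, hOU, Y.presheaf.map (homOfLE hOU).op a * r, ?_⟩
    show psi (trivC f T c) (res L _ (f.app U a • (show Γ(L, f ⁻¹ᵁ U) from σ))) = _
    rw [res_smul, psi_smul, hr, map_mul, K_res]
    congr 1

/-- The descended module, inside the direct image. -/
def descSub : QCoh.SubMod ((Scheme.Modules.pushforward f).obj L) where
  mem := descMem f T
  map_mem {U V} i {s} hs := fun c hc => by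
    obtain ⟨O, hO, hOU, r, hr⟩ := hs c (i hc)
    refine ⟨O ⊓ V, ⟨hO, hc⟩, inf_le_right, Y.presheaf.map (homOfLE inf_le_left).op r, ?_⟩
    show psi (trivC f T c) (res L _ (res L (f.preimage_mono i) (show Γ(L, f ⁻¹ᵁ U) from s))) = _
    rw [res_res]
    have e1 := congrArg ((f.fiber c.η).presheaf.map
      (homOfLE ((f.fiberι c.η).preimage_mono (f.preimage_mono (inf_le_left : O ⊓ V ≤ O)))).op) hr
    rw [← psi_res _ (f.preimage_mono (inf_le_left : O ⊓ V ≤ O)), res_res, res_K f c (f.preimage_mono (inf_le_left : O ⊓ V ≤ O))] at e1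
    rw [e1, K_res]
  of_locally U s h := fun c hc => by
    obtain ⟨V, i, hηV, hs⟩ := h c.η hc
    obtain ⟨O, hO, hOV, r, hr⟩ := hs c hηV
    refine ⟨O, hO, hOV.trans i, r, ?_⟩
    have e : res L (f.preimage_mono (hOV.trans i)) (show Γ(L, f ⁻¹ᵁ U) from s) =
        res L (f.preimage_mono hOV) (res L (f.preimage_mono i) (show Γ(L, f ⁻¹ᵁ U) from s)) := (res_res _ _ _).symm
    rw [e]
    exact hr

omit [IsLocallyNoetherian X] [IsLocallyNoetherian Y] in
include hY in
/-- A function upstairs which is a fraction from the base is a function from the base. -/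
theorem exists_desc_function {c : Chart Y} {V : Y.Opens} (hV : V ≤ c.V) {a b : Γ(Y, c.V)} (hb : b ≠ 0)
    {h : Γ(X, f ⁻¹ᵁ V)}
    (e : f.appLE c.V (f ⁻¹ᵁ V) (f.preimage_mono hV) b * h = f.appLE c.V (f ⁻¹ᵁ V) (f.preimage_mono hV) a) :
    ∃ k : Γ(Y, V), f.app V k = h := by
  have key : ∀ y : V, ∃ (O : Y.Opens) (hO : O ≤ V), y.1 ∈ O ∧ ∃ k : Γ(Y, O),
      f.app O k = resR (f.preimage_mono hO) h := by
    rintro ⟨y, hy⟩
    obtain ⟨x, rfl⟩ := f.surjective y
    have h1 := congrArg (X.presheaf.germ (f ⁻¹ᵁ V) x hy) e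
    have hφ : ∀ r : Γ(Y, c.V), X.presheaf.germ (f ⁻¹ᵁ V) x hy (f.appLE c.V (f ⁻¹ᵁ V) (f.preimage_mono hV) r) =
        (f.stalkMap x).hom (Y.presheaf.germ c.V (f x) (hV hy) r) := fun r => by
      rw [Scheme.Hom.appLE, ConcreteCategory.comp_apply, X.presheaf.germ_res_apply]
      exact (f.germ_stalkMap_apply c.V x (hV hy) r).symm
    rw [map_mul, hφ, hφ] at h1
    have h2 : Y.presheaf.germ c.V (f x) (hV hy) a ∈
        ((Ideal.span {Y.presheaf.germ c.V (f x) (hV hy) b}).map (f.stalkMap x).hom).comap (f.stalkMap x).hom := by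
      rw [Ideal.map_span, Set.image_singleton, Ideal.mem_comap]
      exact Ideal.mem_span_singleton.2 (Dvd.intro _ h1)
    rw [H23.CartierFlatDesc.comap_map_stalkMap, Ideal.mem_span_singleton'] at h2
    obtain ⟨k, hk⟩ := h2
    obtain ⟨E, hxE, k, rfl⟩ := Y.presheaf.exists_germ_eq k
    let E₀ : Y.Opens := E ⊓ V
    have hg : Y.presheaf.germ E₀ (f x) ⟨hxE, hy⟩
        (Y.presheaf.map (homOfLE inf_le_left).op k * Y.presheaf.map (homOfLE (inf_le_right.trans hV : E₀ ≤ c.V)).op b) =
        Y.presheaf.germ E₀ (f x) ⟨hxE, hy⟩ (Y.presheaf.map (homOfLE (inf_le_right.trans hV : E₀ ≤ c.V)).op a) := by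
      rw [map_mul, Y.presheaf.germ_res_apply, Y.presheaf.germ_res_apply, Y.presheaf.germ_res_apply]
      exact hk
    obtain ⟨E₁, hxE₁, i, i', hi⟩ := Y.presheaf.germ_eq (f x) _ _ _ _ hg
    obtain rfl : i = i' := Subsingleton.elim _ _
    have hE₁V : E₁ ≤ V := i.le.trans inf_le_right
    have hE₁E : E₁ ≤ E := i.le.trans inf_le_left
    refine ⟨E₁, hE₁V, hxE₁, Y.presheaf.map (homOfLE hE₁E).op k, app_injective f c hY
      (f.preimage_mono (hE₁V.trans hV)) ?_⟩
    refine (isUnit_K_chart f c hY (f.preimage_mono (hE₁V.trans hV)) hb).mul_left_cancel ?_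
    have e1 : f.appLE c.V (f ⁻¹ᵁ E₁) (f.preimage_mono (hE₁V.trans hV)) b * resR (f.preimage_mono hE₁V) h =
        f.appLE c.V (f ⁻¹ᵁ E₁) (f.preimage_mono (hE₁V.trans hV)) a := by
      have := congrArg (resR (f.preimage_mono hE₁V)) e
      rw [map_mul] at this
      simp only [resR] at this ⊢
      rw [← ConcreteCategory.comp_apply (f.appLE _ _ _), ← ConcreteCategory.comp_apply (f.appLE _ _ _),
        Scheme.Hom.appLE_map] at this
      exact this
    have e2 : f.appLE c.V (f ⁻¹ᵁ E₁) (f.preimage_mono (hE₁V.trans hV)) b *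
        f.app E₁ (Y.presheaf.map (homOfLE hE₁E).op k) =
        f.appLE c.V (f ⁻¹ᵁ E₁) (f.preimage_mono (hE₁V.trans hV)) a := by
      have hh : Y.presheaf.map (homOfLE (hE₁V.trans hV)).op b * Y.presheaf.map (homOfLE hE₁E).op k =
          Y.presheaf.map (homOfLE (hE₁V.trans hV)).op a := by
        have := hi
        simp only [map_mul] at this
        change resR i.le (resR _ k) * resR i.le (resR _ b) = resR i.le (resR _ a) at this
        rw [resR_resR, resR_resR, resR_resR] at this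
        rw [mul_comm]
        exact this
      have hr : ∀ r : Γ(Y, c.V), f.appLE c.V (f ⁻¹ᵁ E₁) (f.preimage_mono (hE₁V.trans hV)) r =
          f.app E₁ (Y.presheaf.map (homOfLE (hE₁V.trans hV)).op r) := fun r => by
        rw [Scheme.Hom.app_eq_appLE, ← ConcreteCategory.comp_apply, Scheme.Hom.map_appLE]
      rw [hr, hr, ← map_mul, hh]
    rw [K_apply, ← map_mul, ← map_mul, e2, e1]
  choose O hO hyO k hk using key
  obtain ⟨kk, hkk, -⟩ := TopCat.Sheaf.existsUnique_gluing' Y.sheaf O V (fun y => homOfLE (hO y))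
    (fun y hy => Opens.mem_iSup.2 ⟨⟨y, hy⟩, hyO _⟩) k fun y y' => by
      refine app_injective_of_surjective f hY _ ?_
      have e1 := congrArg (resR (f.preimage_mono (inf_le_left : O y ⊓ O y' ≤ O y))) (hk y)
      have e2 := congrArg (resR (f.preimage_mono (inf_le_right : O y ⊓ O y' ≤ O y'))) (hk y')
      rw [resR_resR] at e1 e2
      refine Eq.trans ?_ ((e1.trans e2.symm).trans ?_)
      · exact ConcreteCategory.congr_hom (f.naturality (homOfLE (inf_le_left : O y ⊓ O y' ≤ O y)).op) (k y)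
      · exact (ConcreteCategory.congr_hom (f.naturality (homOfLE (inf_le_right : O y ⊓ O y' ≤ O y')).op) (k y')).symm
  refine ⟨kk, TopCat.Sheaf.eq_of_locally_eq' X.sheaf (fun y => f ⁻¹ᵁ O y) (f ⁻¹ᵁ V)
    (fun y => homOfLE (f.preimage_mono (hO y)))
    (fun x hx => Opens.mem_iSup.2 ⟨⟨f x, hx⟩, hyO _⟩) _ _ fun y => ?_⟩
  show resR (f.preimage_mono (hO y)) (f.app V kk) = resR (f.preimage_mono (hO y)) h
  rw [← hk y]
  exact (ConcreteCategory.congr_hom (f.naturality (homOfLE (hO y)).op) kk).symm.trans (congrArg (f.app (O y)) (hkk y))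

omit [Surjective f] [IsLocallyNoetherian X] [IsLocallyNoetherian Y] in
include hY in
theorem mem_descMem {c : Chart Y} {U : Y.Opens} (hU : U ≤ c.V) {p q : Γ(Y, c.V)} (hq : q ≠ 0) {τ : Γ(L, f ⁻¹ᵁ U)}
    (hrel : Rel (trivC f T c) p q (f.preimage_mono hU) τ) : τ ∈ descMem f T U := fun c' hc' => by
  refine memAt_congr f T (c'.max c.η (c.gen _ (hU hc'))) ?_
  have hηU : c.η ∈ U := (c.gen _ (hU hc')).mem_open U.isOpen hc'
  let D : Y.Opens := Y.basicOpen q
  have hηD : c.η ∈ D := (Y.mem_basicOpen q c.η c.mem).2 (c.isUnit_germ hY hq)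
  obtain ⟨qi, hqi⟩ := isUnit_iff_exists_inv.1 (RingedSpace.isUnit_res_basicOpen Y.toRingedSpace q)
  refine ⟨U ⊓ D, ⟨hηU, hηD⟩, inf_le_left,
    Y.presheaf.map (homOfLE (inf_le_left.trans hU)).op p *
      Y.presheaf.map (homOfLE (inf_le_right : U ⊓ D ≤ D)).op qi, ?_⟩
  have h1 := hrel.res (trivC f T c) (f.preimage_mono (inf_le_left : U ⊓ D ≤ U))
  unfold Rel at h1
  refine (isUnit_K_chart f c hY (f.preimage_mono (inf_le_left.trans hU)) hq).mul_left_cancel ?_
  rw [h1, map_mul, K_res f c (inf_le_left.trans hU), mul_left_comm,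
    show K f c (f.preimage_mono (inf_le_left.trans hU)) q * K f c le_rfl (Y.presheaf.map (homOfLE (inf_le_right :
      U ⊓ D ≤ D)).op qi) = 1 from ?_, mul_one]
  rw [← K_res f c (inf_le_left.trans hU) le_rfl q, ← map_mul, ← map_one (K f c (le_refl (f ⁻¹ᵁ (U ⊓ D))))]
  congr 1
  have := congrArg (Y.presheaf.map (homOfLE (inf_le_right : U ⊓ D ≤ D)).op) hqi
  rw [map_mul, map_one] at this
  refine Eq.trans ?_ this
  congr 1
  exact (resR_resR (Y.basicOpen_le q) inf_le_right q).symm

include T hY hL hfib hf in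
theorem exists_descent : ∃ M : Y.Modules, PicF.IsInvertible M ∧ Nonempty ((Scheme.Modules.pullback f).obj M ≅ L) := by
  let N := descSub f T
  have hframe : ∀ y : Y, ∃ (U : Y.Opens) (_ : y ∈ U) (t : Γ(N.toModules, U)),
      IsFrame t ∧ IsFrame (show Γ(L, f ⁻¹ᵁ U) from N.ι.app U t) := fun y => by
    obtain ⟨c, U, hU, p, q, τ, hyU, hp, hq, hτ, hrel⟩ := exists_base_frame f hY T hL hfib hf y
    obtain ⟨t, ht⟩ := N.exists_app_eq (mem_descMem f hY T hU hq hrel)
    refine ⟨U, hyU, t, fun V hV => ?_, ht ▸ hτ⟩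
    have hcalc : ∀ r : Γ(Y, V), (show Γ(L, f ⁻¹ᵁ V) from N.ι.app V (r • res N.toModules hV t)) =
        f.app V r • res L (f.preimage_mono hV) τ := fun r => by
      rw [Scheme.Modules.Hom.app_smul, app_res, ht]
      rfl
    constructor
    · intro r r' h
      have h1 := congrArg (fun s => (show Γ(L, f ⁻¹ᵁ V) from N.ι.app V s)) h
      simp only [hcalc] at h1
      exact app_injective_of_surjective f hY V (hτ.coord_unique _ h1)
    · intro s
      let σ : Γ(L, f ⁻¹ᵁ V) := N.ι.app V s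
      obtain ⟨h, hh⟩ := hτ.exists_coord (f.preimage_mono hV) σ
      suffices hk : ∃ k : Γ(Y, V), f.app V k = h by
        obtain ⟨k, hk⟩ := hk
        refine ⟨k, N.ι_app_injective V ?_⟩
        show (show Γ(L, f ⁻¹ᵁ V) from N.ι.app V (k • res N.toModules hV t)) = σ
        rw [hcalc, hk, ← hh]
      by_cases hη : c.η ∈ V
      · obtain ⟨O, hO, hOV, r, hr⟩ := N.ι_app_mem V s c hη
        letI := TopCat.Presheaf.algebra_section_stalk Y.presheaf (⟨c.η, c.mem⟩ : c.V)
        haveI := c.aff.isLocalization_stalk ⟨c.η, c.mem⟩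
        haveI := c.dom
        obtain ⟨⟨c₁, c₂⟩, hc⟩ := IsLocalization.surj (c.aff.primeIdealOf ⟨c.η, c.mem⟩).asIdeal.primeCompl
          (Y.presheaf.germ O c.η hO r)
        have hc' : Y.presheaf.germ O c.η hO r * Y.presheaf.germ c.V c.η c.mem c₂.1 =
            Y.presheaf.germ c.V c.η c.mem c₁ := hc
        have hc₂ : c₂.1 ≠ 0 := fun h0 => by
          haveI := (hY c.η).1
          have hu : IsUnit (Y.presheaf.germ c.V c.η c.mem c₂.1) := IsLocalization.map_units (Y.presheaf.stalk c.η) c₂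
          exact hu.ne_zero (by rw [h0, map_zero])
        refine exists_desc_function f hY (hV.trans hU) (a := q * c₁) (b := p * c₂.1) (mul_ne_zero hp hc₂) ?_
        refine app_injective f c hY (f.preimage_mono (hV.trans hU)) ?_
        refine TopCat.Presheaf.section_ext (f.fiber c.η).sheaf _ _ _ fun w hw => ?_
        have hfw : f (f.fiberι c.η w) = c.η := FlatDvr.fiberι_apply_eq f w
        have hwO : f.fiberι c.η w ∈ f ⁻¹ᵁ O := show f (f.fiberι c.η w) ∈ O by rw [hfw]; exact hO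
        have h1 : res L (f.preimage_mono hOV) σ =
            resR (f.preimage_mono hOV) h • res L (f.preimage_mono (hOV.trans hV)) τ := by
          rw [hh, res_smul, res_res]
        have h2 : (f.fiberι c.η).app _ (resR (f.preimage_mono hOV) h) *
            psi (trivC f T c) (res L (f.preimage_mono (hOV.trans hV)) τ) = K f c le_rfl r := by
          rw [← psi_smul, ← h1]
          exact hr
        have h3 := hrel.res (trivC f T c) (f.preimage_mono (hOV.trans hV))
        unfold Rel at h3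
        have h4 : (f.fiberι c.η).app _ (resR (f.preimage_mono hOV) h) *
            K f c (f.preimage_mono (hOV.trans (hV.trans hU))) p =
            K f c (f.preimage_mono (hOV.trans (hV.trans hU))) q * K f c le_rfl r := by
          rw [← h3, mul_left_comm, h2]
        have h5 := congrArg ((f.fiber c.η).presheaf.germ (f.fiberι c.η ⁻¹ᵁ f ⁻¹ᵁ O) w hwO) h4
        have hgO : (f.fiber c.η).presheaf.germ (f.fiberι c.η ⁻¹ᵁ f ⁻¹ᵁ O) w hwO
            ((f.fiberι c.η).app _ (resR (f.preimage_mono hOV) h)) =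
            (f.fiber c.η).presheaf.germ (f.fiberι c.η ⁻¹ᵁ f ⁻¹ᵁ V) w hw ((f.fiberι c.η).app _ h) := by
          erw [ConcreteCategory.congr_hom ((f.fiberι c.η).naturality (homOfLE (f.preimage_mono hOV)).op) h]
          exact (f.fiber c.η).presheaf.germ_res_apply _ _ _ _
        rw [map_mul, map_mul, hgO, germ_K _ _ _ p _ hwO, germ_K _ _ _ q _ hwO, germ_K _ _ _ r _ hwO] at h5
        change (f.fiber c.η).presheaf.germ _ w hw ((f.fiberι c.η).app _ (_ * h)) =
          (f.fiber c.η).presheaf.germ _ w hw ((f.fiberι c.η).app _ _)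
        have key : ∀ {z : Y} (e : z = c.η) (hzO : z ∈ O) (hzV : z ∈ c.V),
            Y.presheaf.germ O z hzO r * Y.presheaf.germ c.V z hzV c₂.1 = Y.presheaf.germ c.V z hzV c₁ := by
          rintro z rfl hzO hzV; exact hc'
        have hgen : ∀ s, (f.fiber c.η).presheaf.germ (f.fiberι c.η ⁻¹ᵁ f ⁻¹ᵁ V) w hw
            ((f.fiberι c.η).app _ (f.appLE c.V (f ⁻¹ᵁ V) (f.preimage_mono (hV.trans hU)) s)) =
            ((f.fiberι c.η).stalkMap w).hom ((f.stalkMap (f.fiberι c.η w)).hom
              (Y.presheaf.germ c.V _ ((hV.trans hU) hw) s)) := fun s => by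
          rw [← K_apply]
          exact germ_K f c _ s w hw
        rw [map_mul ((f.fiberι c.η).app _).hom, map_mul ((f.fiber c.η).presheaf.germ _ w hw).hom, hgen, hgen,
          map_mul, map_mul, map_mul, map_mul, map_mul, map_mul,
          ← key hfw hwO ((hV.trans hU) hw), map_mul, map_mul]
        linear_combination (((f.fiberι c.η).stalkMap w).hom ((f.stalkMap (f.fiberι c.η w)).hom
          (Y.presheaf.germ c.V _ ((hV.trans hU) hw) c₂.1))) * h5
      · refine ⟨0, ?_⟩
        have hemp : ∀ x, x ∉ f ⁻¹ᵁ V := fun x hx =>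
          hη ((c.gen (f x) (hU (hV hx))).mem_open V.isOpen hx)
        exact TopCat.Presheaf.section_ext X.sheaf _ _ _ fun x hx => absurd hx (hemp x)
  choose U hU t ht htι using hframe
  let φ : (Scheme.Modules.pullback f).obj N.toModules ⟶ L :=
    ((Scheme.Modules.pullbackPushforwardAdjunction f).homEquiv _ _).symm N.ι
  have happ : ∀ y, φ.app (f ⁻¹ᵁ U y) (pullElt f (t y)) = (show Γ(L, f ⁻¹ᵁ U y) from N.ι.app (U y) (t y)) := fun y => by
    have h := Equiv.apply_symm_apply ((Scheme.Modules.pullbackPushforwardAdjunction f).homEquiv N.toModules L) N.ι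
    rw [Adjunction.homEquiv_unit] at h
    exact ConcreteCategory.congr_hom (congrArg (fun ψ => Scheme.Modules.Hom.app ψ (U y)) h) (t y)
  haveI : IsIso φ := DivX.isIso_of_frames φ fun x => ⟨f ⁻¹ᵁ U (f x), hU (f x), pullElt f (t (f x)),
    isFrame_pullElt f (ht (f x)), by rw [happ]; exact htι (f x)⟩
  exact ⟨N.toModules, InvX.isInvertible_of_frames fun y => ⟨U y, hU y, t y, ht y⟩, ⟨asIso φ⟩⟩

end Groth.Agent.InvDescN
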