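import Groth.Prelude.Def_Pi1
import Groth.Agent.FlatDvr.FibreStalk
import Groth.Agent.AssLib.FlatFibre
import Groth.Agent.H23.StalkPrimes
import Groth.Agent.S4647
import Mathlib.AlgebraicGeometry.Morphisms.Flat

/-!
# Charts of a normal locally Noetherian scheme, and the generic fibre of a flat morphism over a chart

A chart is an affine open with integral coordinate ring, together with its generic point. Functions on the
generic fibre over an affine open are fractions, and functions on an open over the chart are determined by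
their restriction to the generic fibre.
-/

set_option autoImplicit false
set_option backward.isDefEq.respectTransparency false
set_option backward.isDefEq.respectTransparency.types false

universe u

open CategoryTheory CategoryTheory.Limits AlgebraicGeometry TopologicalSpace IsLocalRing

noncomputable section

namespace Groth.Agent.InvDescN

open Groth.Agent

variable {X Y : Scheme.{u}}

/-- An affine open with integral coordinate ring and its generic point. -/
structure Chart (Y : Scheme.{u}) where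
  V : Y.Opens
  η : Y
  aff : IsAffineOpen V
  dom : IsDomain Γ(Y, V)
  mem : η ∈ V
  max : ∀ z : Y, z ⤳ η → z = η
  gen : ∀ z : Y, z ∈ V → η ⤳ z

theorem exists_chart [IsLocallyNoetherian Y] (hY : Pi1.IsNormalScheme Y) (y : Y) (O : Y.Opens) (hyO : y ∈ O) :
    ∃ c : Chart Y, y ∈ c.V ∧ c.V ≤ O := by
  obtain ⟨U₀, hyU₀, hint⟩ := S4647.result (𝟙 Y) (fun z => (hY z).1) (fun z => by
    obtain ⟨_, ⟨U, hU, rfl⟩, hzU, -⟩ := Y.isBasis_affineOpens.exists_subset_of_mem_open (Set.mem_univ z) isOpen_univ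
    haveI : IsNoetherianRing Γ(Y, U) := IsLocallyNoetherian.component_noetherian ⟨U, hU⟩
    exact ⟨U, hzU, noetherianSpace_of_isAffineOpen U hU⟩) y
  obtain ⟨_, ⟨W, hW, rfl⟩, hyW, hle⟩ := Y.isBasis_affineOpens.exists_subset_of_mem_open
    (show y ∈ U₀ ⊓ O from ⟨hyU₀, hyO⟩) (U₀ ⊓ O).isOpen
  haveI := hint
  haveI : IsIso (U₀.ι.app W) := U₀.ι.isIso_app W (by rw [Scheme.Opens.opensRange_ι]; exact fun z hz => (hle hz).1)
  haveI : Nonempty (U₀.ι ⁻¹ᵁ W : (U₀ : Scheme.{u}).Opens) := ⟨⟨⟨y, hyU₀⟩, hyW⟩⟩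
  haveI : IsDomain Γ((U₀ : Scheme.{u}), U₀.ι ⁻¹ᵁ W) := IsIntegral.component_integral _
  let g : ↥(U₀ : Scheme.{u}) := genericPoint ↥(U₀ : Scheme.{u})
  have hgen : ∀ z ∈ W, U₀.ι g ⤳ z := fun z hz =>
    (genericPoint_specializes (α := ↥(U₀ : Scheme.{u})) ⟨z, (hle hz).1⟩).map U₀.ι.continuous
  refine ⟨⟨W, U₀.ι g, hW, (asIso (U₀.ι.app W)).commRingCatIsoToRingEquiv.toMulEquiv.isDomain _, ?_, ?_, hgen⟩,
    hyW, fun z hz => (hle hz).2⟩
  · exact (hgen y hyW).mem_open W.isOpen hyW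
  · intro z hz
    have hzU : z ∈ U₀ := hz.mem_open U₀.isOpen g.2
    have h1 : (⟨z, hzU⟩ : ↥(U₀ : Scheme.{u})) ⤳ g := U₀.ι.isOpenEmbedding.isInducing.specializes_iff.1 hz
    have h2 : g ⤳ (⟨z, hzU⟩ : ↥(U₀ : Scheme.{u})) := genericPoint_specializes (α := ↥(U₀ : Scheme.{u})) _
    exact congrArg (fun t : ↥(U₀ : Scheme.{u}) => U₀.ι t) (h1.antisymm h2).eq

namespace Chart

variable (c : Chart Y)

theorem germ_injective {z : Y} (hz : z ∈ c.V) : Function.Injective (Y.presheaf.germ c.V z hz) := by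
  haveI := c.dom
  letI := TopCat.Presheaf.algebra_section_stalk Y.presheaf (⟨z, hz⟩ : c.V)
  haveI := c.aff.isLocalization_stalk ⟨z, hz⟩
  exact IsLocalization.injective (Y.presheaf.stalk z) (c.aff.primeIdealOf ⟨z, hz⟩).asIdeal.primeCompl_le_nonZeroDivisors

theorem germ_ne_zero {z : Y} (hz : z ∈ c.V) {r : Γ(Y, c.V)} (hr : r ≠ 0) : Y.presheaf.germ c.V z hz r ≠ 0 :=
  fun h => hr (c.germ_injective hz (h.trans (map_zero _).symm))

theorem isUnit_of_ne_zero (hY : Pi1.IsNormalScheme Y) {a : Y.presheaf.stalk c.η} (ha : a ≠ 0) : IsUnit a := by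
  haveI := (hY c.η).1
  by_contra hu
  have h0 := (AssLib.dimZero_iff c.η).2 c.max ⊥ Ideal.isPrime_bot
  have : a ∈ (⊥ : Ideal (Y.presheaf.stalk c.η)) := by rwa [h0, IsLocalRing.mem_maximalIdeal]
  exact ha this

theorem isUnit_germ (hY : Pi1.IsNormalScheme Y) {r : Γ(Y, c.V)} (hr : r ≠ 0) :
    IsUnit (Y.presheaf.germ c.V c.η c.mem r) :=
  c.isUnit_of_ne_zero hY (c.germ_ne_zero c.mem hr)

theorem eq_η_of_forall_isUnit {z : Y} (hz : z ∈ c.V)
    (h : ∀ r : Γ(Y, c.V), r ≠ 0 → IsUnit (Y.presheaf.germ c.V z hz r)) : z = c.η := by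
  have hspec : z ⤳ c.η := by
    haveI := c.dom
    letI := TopCat.Presheaf.algebra_section_stalk Y.presheaf (⟨z, hz⟩ : c.V)
    haveI := c.aff.isLocalization_stalk ⟨z, hz⟩
    have hbot : (c.aff.primeIdealOf ⟨z, hz⟩).asIdeal = ⊥ := by
      refine eq_bot_iff.2 fun r hr => by_contra fun hr0 => ?_
      exact (IsLocalization.AtPrime.isUnit_to_map_iff (Y.presheaf.stalk z) _ r).1 (h r hr0) hr
    have hle : c.aff.primeIdealOf ⟨z, hz⟩ ≤ c.aff.primeIdealOf ⟨c.η, c.mem⟩ := by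
      show (c.aff.primeIdealOf ⟨z, hz⟩).asIdeal ≤ _
      rw [hbot]
      exact bot_le
    have h1 := ((PrimeSpectrum.le_iff_specializes _ _).1 hle).map c.aff.fromSpec.continuous
    rwa [IsAffineOpen.fromSpec_primeIdealOf, IsAffineOpen.fromSpec_primeIdealOf] at h1
  exact c.max z hspec

end Chart

variable (f : X ⟶ Y) (c : Chart Y)

/-- Functions on the base seen on the fibre over the generic point of the chart. -/
def K {U : Y.Opens} {O : X.Opens} (h : O ≤ f ⁻¹ᵁ U) : Γ(Y, U) →+* Γ(f.fiber c.η, f.fiberι c.η ⁻¹ᵁ O) :=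
  ((f.fiberι c.η).app O).hom.comp (f.appLE U O h).hom

theorem K_apply {U : Y.Opens} {O : X.Opens} (h : O ≤ f ⁻¹ᵁ U) (r : Γ(Y, U)) :
    K f c h r = (f.fiberι c.η).app O (f.appLE U O h r) := rfl

theorem K_res {U U' : Y.Opens} {O : X.Opens} (i : U' ≤ U) (h : O ≤ f ⁻¹ᵁ U') (r : Γ(Y, U)) :
    K f c h (Y.presheaf.map (homOfLE i).op r) = K f c (h.trans (f.preimage_mono i)) r := by
  rw [K_apply, K_apply]
  congr 1
  exact ConcreteCategory.congr_hom (f.map_appLE h (homOfLE i).op) r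

theorem res_K {U : Y.Opens} {O O' : X.Opens} (i : O' ≤ O) (h : O ≤ f ⁻¹ᵁ U) (r : Γ(Y, U)) :
    (f.fiber c.η).presheaf.map (homOfLE ((f.fiberι c.η).preimage_mono i)).op (K f c h r) =
      K f c (i.trans h) r := by
  rw [K_apply, K_apply, ← Scheme.Hom.appLE_map f h (homOfLE i).op, ConcreteCategory.comp_apply,
    ← ConcreteCategory.comp_apply, ← ConcreteCategory.comp_apply (X.presheaf.map _), (f.fiberι c.η).naturality]
  rfl

theorem germ_K {U : Y.Opens} {O : X.Opens} (h : O ≤ f ⁻¹ᵁ U) (r : Γ(Y, U)) (w : ↥(f.fiber c.η))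
    (hw : f.fiberι c.η w ∈ O) :
    (f.fiber c.η).presheaf.germ (f.fiberι c.η ⁻¹ᵁ O) w hw (K f c h r) =
      ((f.fiberι c.η).stalkMap w).hom ((f.stalkMap (f.fiberι c.η w)).hom
        (Y.presheaf.germ U (f (f.fiberι c.η w)) (h hw) r)) := by
  rw [K_apply, ← Scheme.Hom.germ_stalkMap_apply, Scheme.Hom.appLE, ConcreteCategory.comp_apply,
    X.presheaf.germ_res_apply]
  congr 1
  exact (f.germ_stalkMap_apply U _ (h hw) r).symm

theorem isUnit_K {U : Y.Opens} {O : X.Opens} (h : O ≤ f ⁻¹ᵁ U) (hη : c.η ∈ U) {r : Γ(Y, U)}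
    (hr : IsUnit (Y.presheaf.germ U c.η hη r)) : IsUnit (K f c h r) := by
  refine RingedSpace.isUnit_of_isUnit_germ (f.fiber c.η).toRingedSpace _ _ fun w hw => ?_
  erw [germ_K f c h r w hw]
  refine IsUnit.map _ (IsUnit.map _ ?_)
  have key : ∀ {z z' : Y} (e : z = z') (hz : z ∈ U) (hz' : z' ∈ U),
      IsUnit (Y.presheaf.germ U z' hz' r) → IsUnit (Y.presheaf.germ U z hz r) := by
    rintro z z' rfl hz hz' hu; exact hu
  exact key (FlatDvr.fiberι_apply_eq f w) _ hη hr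

theorem isUnit_K_chart (hY : Pi1.IsNormalScheme Y) {O : X.Opens} (h : O ≤ f ⁻¹ᵁ c.V) {r : Γ(Y, c.V)} (hr : r ≠ 0) :
    IsUnit (K f c h r) :=
  isUnit_K f c h c.mem (c.isUnit_germ hY hr)

theorem fromSpecResidueField_appLE (y : Y) (U : Y.Opens) (hy : y ∈ U)
    (e : (⊤ : (Spec (Y.residueField y)).Opens) ≤ Y.fromSpecResidueField y ⁻¹ᵁ U) :
    (Y.fromSpecResidueField y).appLE U ⊤ e =
      Y.presheaf.germ U y hy ≫ Y.residue y ≫ (Scheme.ΓSpecIso (Y.residueField y)).inv := by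
  simp only [Scheme.fromSpecResidueField]
  rw [Scheme.Hom.comp_appLE, Scheme.fromSpecStalk_app hy]
  simp only [Category.assoc, Scheme.Hom.map_appLE]
  rw [Scheme.ΓSpecIso_inv_naturality]
  simp [Scheme.Hom.appLE]

/-- A function on the generic fibre over an affine open is a fraction. -/
theorem exists_lift {W : X.Opens} (hW : IsAffineOpen W) (hWV : W ≤ f ⁻¹ᵁ c.V)
    (x : Γ(f.fiber c.η, f.fiberι c.η ⁻¹ᵁ W)) :
    ∃ (b : Γ(X, W)) (r : Γ(Y, c.V)), IsUnit (Y.presheaf.germ c.V c.η c.mem r) ∧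
      (f.fiberι c.η).app W b = K f c hWV r * x := by
  let ι := f.fiberι c.η
  let q := f.fiberToSpecResidueField c.η
  let g := Y.fromSpecResidueField c.η
  let ev := Y.presheaf.germ c.V c.η c.mem
  have hUST : (⊤ : (Spec (Y.residueField c.η)).Opens) ≤ g ⁻¹ᵁ c.V := fun p _ => by
    show g p ∈ c.V
    rw [Scheme.fromSpecResidueField_apply]
    exact c.mem
  have H : IsPullback ι q f g := IsPullback.of_hasPullback f (Y.fromSpecResidueField c.η)
  have hUY : (ι ⁻¹ᵁ W : (f.fiber c.η).Opens) = ι ⁻¹ᵁ W ⊓ q ⁻¹ᵁ ⊤ := by simp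
  have hpo := (isIso_pushoutSection_iff H hUST hWV hUY).1
    (isIso_pushoutSection_of_isAffineOpen H hUST hWV hUY c.aff (isAffineOpen_top _) hW)
  let T : Subring Γ(f.fiber c.η, ι ⁻¹ᵁ W) :=
    { carrier := {x | ∃ (b : Γ(X, W)) (r : Γ(Y, c.V)), IsUnit (ev r) ∧ ι.app W b = K f c hWV r * x}
      zero_mem' := ⟨0, 1, by simp, by simp⟩
      one_mem' := ⟨1, 1, by simp, by simp⟩
      neg_mem' := by rintro x ⟨b, r, hr, h⟩; exact ⟨-b, r, hr, by simp [h]⟩
      mul_mem' := by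
        rintro x y ⟨b, r, hr, h⟩ ⟨b', r', hr', h'⟩
        exact ⟨b * b', r * r', by rw [map_mul]; exact hr.mul hr', by rw [map_mul, h, h', map_mul]; ring⟩
      add_mem' := by
        rintro x y ⟨b, r, hr, h⟩ ⟨b', r', hr', h'⟩
        refine ⟨f.appLE c.V W hWV r' * b + f.appLE c.V W hWV r * b', r * r', by rw [map_mul]; exact hr.mul hr', ?_⟩
        simp only [map_add, map_mul, h, h', K_apply]
        ring }
  suffices hT : T = ⊤ by
    have : x ∈ T := hT ▸ Subring.mem_top x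
    exact this
  have hr₁ : ∀ b, ι.appLE W (ι ⁻¹ᵁ W) le_rfl b ∈ T := fun b => ⟨b, 1, by simp, by simp [Scheme.Hom.app_eq_appLE]⟩
  have hr₂ : ∀ t, q.appLE ⊤ (ι ⁻¹ᵁ W) le_top t ∈ T := fun t => by
    obtain ⟨k, rfl⟩ : ∃ k, (Scheme.ΓSpecIso (Y.residueField c.η)).inv k = t :=
      ⟨(Scheme.ΓSpecIso (Y.residueField c.η)).hom t, by simp⟩
    obtain ⟨z, rfl⟩ := Y.residue_surjective c.η k
    letI := TopCat.Presheaf.algebra_section_stalk Y.presheaf (⟨c.η, c.mem⟩ : c.V)
    haveI := c.aff.isLocalization_stalk ⟨c.η, c.mem⟩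
    obtain ⟨⟨a, s⟩, e⟩ := IsLocalization.surj (c.aff.primeIdealOf ⟨c.η, c.mem⟩).asIdeal.primeCompl z
    have hs : IsUnit (ev s.1) := IsLocalization.map_units (Y.presheaf.stalk c.η) s
    refine ⟨f.appLE c.V W hWV a, s.1, hs, ?_⟩
    have hsq : ∀ r : Γ(Y, c.V), K f c hWV r = q.appLE ⊤ (ι ⁻¹ᵁ W) le_top
        ((Scheme.ΓSpecIso (Y.residueField c.η)).inv (Y.residue c.η (ev r))) := fun r => by
      have h1 := ConcreteCategory.congr_hom hpo.w r
      simp only [ConcreteCategory.comp_apply] at h1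
      rw [fromSpecResidueField_appLE c.η c.V c.mem] at h1
      rw [K_apply]
      rw [Scheme.Hom.app_eq_appLE]
      simpa only [ConcreteCategory.comp_apply] using h1
    show (f.fiberι c.η).app W (f.appLE c.V W hWV a) = _
    rw [← K_apply, hsq, hsq, ← map_mul, ← map_mul, ← map_mul]
    congr 3
    rw [mul_comm]
    exact e.symm
  let incl : CommRingCat.of T ⟶ Γ(f.fiber c.η, ι ⁻¹ᵁ W) := CommRingCat.ofHom T.subtype
  let a₁ : Γ(X, W) ⟶ CommRingCat.of T := CommRingCat.ofHom ((ι.appLE W (ι ⁻¹ᵁ W) le_rfl).hom.codRestrict T hr₁)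
  let a₂ : Γ(Spec (Y.residueField c.η), ⊤) ⟶ CommRingCat.of T :=
    CommRingCat.ofHom ((q.appLE ⊤ (ι ⁻¹ᵁ W) le_top).hom.codRestrict T hr₂)
  let σ : Γ(f.fiber c.η, ι ⁻¹ᵁ W) ⟶ CommRingCat.of T := hpo.desc a₁ a₂ (by
    ext r : 2
    exact Subtype.ext (congr($(hpo.w).hom r)))
  have hid : σ ≫ incl = 𝟙 _ := hpo.hom_ext
    (by
      ext r
      have h := hpo.inl_desc a₁ a₂ (by ext r : 2; exact Subtype.ext (congr($(hpo.w).hom r)))
      exact congrArg Subtype.val congr(($h).hom r))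
    (by
      ext r
      have h := hpo.inr_desc a₁ a₂ (by ext r : 2; exact Subtype.ext (congr($(hpo.w).hom r)))
      exact congrArg Subtype.val congr(($h).hom r))
  refine top_le_iff.1 fun z _ => ?_
  rw [show z = (σ ≫ incl) z by rw [hid]; rfl]
  exact (σ z).2

/-- Functions on an open over the chart are determined on the generic fibre. -/
theorem app_injective (hY : Pi1.IsNormalScheme Y) [Flat f] {O : X.Opens} (hO : O ≤ f ⁻¹ᵁ c.V) :
    Function.Injective ((f.fiberι c.η).app O) := by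
  refine (injective_iff_map_eq_zero _).2 fun a ha => ?_
  refine TopCat.Presheaf.section_ext X.sheaf O a 0 fun x hx => ?_
  refine Eq.trans ?_ (map_zero _).symm
  let a₀ : X.presheaf.stalk x := X.presheaf.germ O x hx a
  show a₀ = 0
  by_contra hne
  haveI := (hY (f x)).1
  letI := (f.stalkMap x).hom.toAlgebra
  haveI : Module.Flat (Y.presheaf.stalk (f x)) (X.presheaf.stalk x) :=
    RingHom.flat_algebraMap_iff.mp (Flat.stalkMap f x)
  let S : Submonoid (X.presheaf.stalk x) :=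
    (nonZeroDivisors (Y.presheaf.stalk (f x))).map (f.stalkMap x).hom
  have hdisj : Disjoint (((⊥ : Ideal (X.presheaf.stalk x)).colon {a₀} : Ideal _) : Set (X.presheaf.stalk x)) S := by
    rw [Set.disjoint_left]
    rintro _ h ⟨t, ht, rfl⟩
    have h0 : (f.stalkMap x).hom t * a₀ = 0 := (Submodule.mem_bot (X.presheaf.stalk x)).1 (Submodule.mem_colon_singleton.1 h)
    have hreg : IsSMulRegular (X.presheaf.stalk x) ((f.stalkMap x).hom t) :=
      IsSMulRegular.of_flat (S := X.presheaf.stalk x)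
        (fun p q hpq => mul_left_cancel₀ (nonZeroDivisors.ne_zero ht) hpq)
    exact hne (hreg (show _ * a₀ = _ * 0 by rw [h0, mul_zero]))
  obtain ⟨P, hP, hle, hd⟩ := Ideal.exists_le_prime_disjoint _ S hdisj
  haveI := hP
  obtain ⟨x', hx', rfl⟩ := H23.StalkPrimes.exists_point (X := X) P
  have hx'O : x' ∈ O := hx'.mem_open O.isOpen hx
  have hη : f x' = c.η := c.eq_η_of_forall_isUnit (hO hx'O) fun r hr => by
    have hmem : (f.stalkMap x).hom (Y.presheaf.germ c.V (f x) (hO hx) r) ∈ S :=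
      ⟨_, mem_nonZeroDivisors_iff_ne_zero.2 (c.germ_ne_zero _ hr), rfl⟩
    have hu : IsUnit (X.presheaf.stalkSpecializes hx'
        ((f.stalkMap x).hom (Y.presheaf.germ c.V (f x) (hO hx) r))) :=
      not_not.1 fun h => Set.disjoint_right.1 hd hmem ((CDiv6.mem_primeOf hx' _).2 h)
    rw [show (f.stalkMap x).hom (Y.presheaf.germ c.V (f x) (hO hx) r) =
      X.presheaf.germ (f ⁻¹ᵁ c.V) x (hO hx) (f.app c.V r) from f.germ_stalkMap_apply _ _ _ r,
      TopCat.Presheaf.germ_stalkSpecializes_apply] at hu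
    erw [← f.germ_stalkMap_apply c.V x' (hO hx'O) r] at hu
    exact isUnit_of_map_unit (f.stalkMap x').hom _ hu
  have hne' : X.presheaf.germ O x' hx'O a ≠ 0 := fun h0 => by
    letI := (X.presheaf.stalkSpecializes hx').hom.toAlgebra
    haveI := H23.StalkPrimes.isLocalization_primeOf hx'
    have h1 : algebraMap (X.presheaf.stalk x) (X.presheaf.stalk x') a₀ = 0 := by
      show X.presheaf.stalkSpecializes hx' (X.presheaf.germ O x hx a) = 0
      rw [TopCat.Presheaf.germ_stalkSpecializes_apply, h0]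
    obtain ⟨m, hm⟩ := (IsLocalization.map_eq_zero_iff (CDiv6.primeOf hx').asIdeal.primeCompl _ _).1 h1
    exact m.2 (hle (Submodule.mem_colon_singleton.2 ((Submodule.mem_bot (X.presheaf.stalk x)).2 hm)))
  obtain ⟨w, rfl⟩ : x' ∈ Set.range (f.fiberι c.η) := by rw [Scheme.Hom.range_fiberι]; exact hη
  refine hne' ?_
  have hker := FlatDvr.ker_stalkMap_fiberι f w
  have hmax : maximalIdeal (Y.presheaf.stalk (f (f.fiberι c.η w))) = ⊥ := by
    haveI := (hY (f (f.fiberι c.η w))).1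
    exact ((AssLib.dimZero_iff _).2 (by rw [hη]; exact c.max) ⊥ Ideal.isPrime_bot).symm
  rw [hmax, Ideal.map_bot, ← RingHom.injective_iff_ker_eq_bot] at hker
  refine hker ?_
  rw [map_zero]
  refine ((f.fiberι c.η).germ_stalkMap_apply O w hx'O a).trans ?_
  rw [ha, map_zero]

end Groth.Agent.InvDescN
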