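import Groth.Agent.InvDescN.Psi
import Groth.Agent.H23.CartierFlatNormal

/-!
# Every point has a frame with ratio from the base, and the ratio depends only on the image
-/

set_option autoImplicit false
set_option backward.isDefEq.respectTransparency false
set_option backward.isDefEq.respectTransparency.types false

universe u

open CategoryTheory CategoryTheory.Limits AlgebraicGeometry TopologicalSpace IsLocalRing

noncomputable section

namespace Groth.Agent.InvDescN

open Groth.Agent InvX AModX H23.StalkIdeal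

variable {X Y : Scheme.{u}}

theorem noEmb_and_pow [IsLocallyNoetherian X] [IsLocallyNoetherian Y] (f : X ⟶ Y) [Flat f]
    (hY : Pi1.IsNormalScheme Y) {𝓙 : X.IdealSheafData} (hJ : BlowUp.IsEffCartierIdeal 𝓙) {y : Y}
    (hy : ringKrullDim (Y.presheaf.stalk y) = 1) (hfib : IsEmpty ↥(f.fiber y) ∨ IsIntegral (f.fiber y)) :
    H23.CartierFlatNormal.NoEmb f y ∧ ∃ n : ℕ, ∀ w : ↥(f.fiber y), (∀ w', w' ⤳ w → w' = w) →
      sI 𝓙 (f.fiberι y w) =
        ((maximalIdeal (Y.presheaf.stalk (f (f.fiberι y w)))) ^ n).map (f.stalkMap (f.fiberι y w)).hom := by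
  rcases hfib with hemp | hint
  · exact ⟨fun z => isEmptyElim z, 0, fun w => isEmptyElim w⟩
  haveI := hint
  have hmax : ∀ z : ↥(f.fiber y), AssLib.DepthZero ((f.fiber y).presheaf.stalk z) →
      z = genericPoint ↥(f.fiber y) := fun z ⟨e, he0, he⟩ => by
    refine ((AssLib.dimZero_iff z).1 (fun P hP => ?_) _ (genericPoint_specializes z)).symm
    refine le_antisymm (IsLocalRing.le_maximalIdeal hP.ne_top) fun r hr => ?_
    rw [(mul_eq_zero.1 (he r hr)).resolve_right he0]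
    exact P.zero_mem
  refine ⟨fun z hz z' _ hz' => (hmax z' hz').trans (hmax z hz).symm, ?_⟩
  let w₀ : ↥(f.fiber y) := genericPoint ↥(f.fiber y)
  haveI := (hY (f (f.fiberι y w₀))).1
  haveI := (hY (f (f.fiberι y w₀))).2
  haveI := CDiv6.isDVR_of_dim_eq_one (Y.presheaf.stalk (f (f.fiberι y w₀)))
    (by rw [FlatDvr.fiberι_apply_eq]; exact hy)
  obtain ⟨n, hn⟩ := H23.CartierFlatNormal.exists_pow (f := f) hJ w₀
    fun w' hw' => (hw'.antisymm (genericPoint_specializes w')).eq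
  refine ⟨n, fun w hw => ?_⟩
  obtain rfl : w₀ = w := hw _ (genericPoint_specializes w)
  exact hn

/-- A locally principal datum, trivial over maximal points, is a unit multiple of one from the base. -/
theorem exists_base_generator [IsLocallyNoetherian X] [IsLocallyNoetherian Y] (f : X ⟶ Y) [Flat f]
    (hY : Pi1.IsNormalScheme Y)
    (hfib : ∀ y : Y, ringKrullDim (Y.presheaf.stalk y) = 1 → IsEmpty ↥(f.fiber y) ∨ IsIntegral (f.fiber y))
    (a : ∀ x : X, X.presheaf.stalk x)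
    (ha : ∀ x : X, ∃ (U : X.affineOpens) (s : Γ(X, U.1)), x ∈ U.1 ∧
      ∀ z (hz : z ∈ U.1), a z = X.presheaf.germ U.1 z hz s)
    (hreg : ∀ x, a x ∈ nonZeroDivisors (X.presheaf.stalk x))
    (hmax : ∀ x : X, (∀ z, z ⤳ f x → z = f x) → IsUnit (a x)) (x : X) :
    ∃ g ∈ nonZeroDivisors (Y.presheaf.stalk (f x)), ∃ ε : X.presheaf.stalk x,
      IsUnit ε ∧ a x = (f.stalkMap x).hom g * ε := by
  let S : ∀ x : X, Ideal (X.presheaf.stalk x) := fun x => Ideal.span {a x}
  have hS : ∀ x : X, ∃ (U : X.affineOpens) (s : Γ(X, U.1)), x ∈ U.1 ∧ Gen S U s := fun x => by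
    obtain ⟨U, s, hx, hs⟩ := ha x
    exact ⟨U, s, hx, fun z hz => by simp only [S, hs z hz]⟩
  have hJ : BlowUp.IsEffCartierIdeal (ofStalks S hS) :=
    isEffCartier_ofStalks hS fun x => ⟨a x, hreg x, rfl⟩
  have h1 : ∀ x : X, (∀ z, z ⤳ f x → z = f x) → sI (ofStalks S hS) x = ⊤ := fun x hx => by
    rw [sI_ofStalks, Ideal.span_singleton_eq_top]
    exact hmax x hx
  have hloc : ∀ y : Y, ¬ (2 : ℕ∞) ≤ LocCoh.depth (Y.presheaf.stalk y) (Y.presheaf.stalk y) →
      H23.CartierFlatDesc.Loc f (ofStalks S hS) y := fun y hy => by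
    rcases H23.CartierFlatNormal.depth_cases hY hy with hm | ⟨_, _, hdim⟩
    · refine ⟨⊤, fun z hz => ?_⟩
      rw [Ideal.map_top, Ideal.map_top]
      obtain rfl := hm _ hz
      exact h1 z hm
    · obtain ⟨hE, n, hn⟩ := noEmb_and_pow f hY hJ hdim (hfib y hdim)
      refine ⟨maximalIdeal (Y.presheaf.stalk y) ^ n, fun z hz => ?_⟩
      by_cases hne : f z = y
      · rw [H23.CartierFlatNormal.stalk_eq hJ h1 hE n hn z hne, Ideal.map_pow (Y.presheaf.stalkSpecializes hz).hom,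
          H23.CartierFlatNormal.map_specializes_of_eq hz hne]
      · rw [H23.CartierFlatNormal.map_pow_eq_top hz hne, Ideal.map_top]
        exact h1 z fun t ht => H23.CartierFlatNormal.max_of_ne hz hne ht
  have heq : Ideal.span {a x} = (H23.CartierFlatDesc.Iy hloc (f x)).map (f.stalkMap x).hom :=
    (sI_ofStalks hS x).symm.trans (H23.CartierFlatDesc.sI_eq_map hJ hloc x)
  letI := (f.stalkMap x).hom.toAlgebra
  haveI : Module.FaithfullyFlat (Y.presheaf.stalk (f x)) (X.presheaf.stalk x) :=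
    RingHom.faithfullyFlat_algebraMap_iff.mp (H23.FFDescent.faithfullyFlat_stalkMap f x)
  obtain ⟨g, hg, hgI⟩ := H23.CartierFlatDescAlg.exists_span _ (hreg x) heq.symm
  rw [hgI, Ideal.map_span, Set.image_singleton] at heq
  obtain ⟨ε, hε⟩ := Ideal.mem_span_singleton'.1 (heq.le (Ideal.mem_span_singleton_self (a x)))
  refine ⟨g, hg, ε, ?_, by rw [← hε, mul_comm]⟩
  obtain ⟨d, hd⟩ := Ideal.mem_span_singleton'.1 (heq.ge (Ideal.mem_span_singleton_self ((f.stalkMap x).hom g)))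
  refine IsUnit.of_mul_eq_one d ?_
  have h2 : (ε * d) * a x = 1 * a x := by rw [mul_assoc, hd, hε, one_mul]
  exact (mul_cancel_right_mem_nonZeroDivisors (hreg x)).1 h2

theorem isEmpty_or_isIntegral_fibre (f : X ⟶ Y) (W : X.Opens) (y : Y) [IsIntegral (f.fiber y)] :
    IsEmpty ↥((W.ι ≫ f).fiber y) ∨ IsIntegral ((W.ι ≫ f).fiber y) := by
  rcases isEmpty_or_nonempty ↥((W.ι ≫ f).fiber y) with h | h
  · exact Or.inl h
  · exact Or.inr (isIntegral_of_isOpenImmersion ((pullbackRightPullbackFstIso f (Y.fromSpecResidueField y) W.ι).inv ≫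
      pullback.snd W.ι (pullback.fst f (Y.fromSpecResidueField y)) : (W.ι ≫ f).fiber y ⟶ f.fiber y))

variable {f : X ⟶ Y} [Flat f] {c : Chart Y} {L : X.Modules} (T : Triv f c L)
  (hY : Pi1.IsNormalScheme Y) (hL : PicF.IsInvertible L)
  (hfib : ∀ y : Y, ringKrullDim (Y.presheaf.stalk y) = 1 → IsIntegral (f.fiber y))

include hY hL hfib in
/-- Every point over the chart has a frame with ratio from the base. -/
theorem exists_good [IsLocallyNoetherian X] [IsLocallyNoetherian Y] {x : X} (hx : f x ∈ c.V) :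
    ∃ p q : Γ(Y, c.V), p ≠ 0 ∧ q ≠ 0 ∧ Good T p q x := by
  haveI := c.dom
  obtain ⟨U, hxU, e₀, he₀⟩ := InvX.exists_frame hL x
  obtain ⟨_, ⟨(W : X.Opens), hW, rfl⟩, hxW, hle⟩ := X.isBasis_affineOpens.exists_subset_of_mem_open
    (show x ∈ U ⊓ f ⁻¹ᵁ c.V from ⟨hxU, hx⟩) (U ⊓ f ⁻¹ᵁ c.V).isOpen
  have hWU : W ≤ U := fun z hz => (hle hz).1
  have hWV : W ≤ f ⁻¹ᵁ c.V := fun z hz => (hle hz).2
  have he := he₀.res hWU
  set e := res L hWU e₀
  obtain ⟨v, hv⟩ := isUnit_psi T he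
  obtain ⟨b, r, hr, hb⟩ := exists_lift f c hW hWV (↑v⁻¹)
  have hrel : (f.fiberι c.η).app W b * psi T e = K f c hWV r := by
    rw [hb, ← hv, Units.inv_mul_cancel_right]
  have hbu : IsUnit ((f.fiberι c.η).app W b) := by
    rw [hb]
    exact (isUnit_K f c hWV c.mem hr).mul v⁻¹.isUnit
  have hr0 : r ≠ 0 := fun h0 => by
    haveI := (hY c.η).1
    exact hr.ne_zero (by rw [h0, map_zero])
  have hnzd : ∀ z (hz : z ∈ W), X.presheaf.germ W z hz b ∈ nonZeroDivisors (X.presheaf.stalk z) := fun z hz => by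
    refine mem_nonZeroDivisors_iff_right.2 fun d hd => ?_
    obtain ⟨D, hzD, d, rfl⟩ := X.presheaf.exists_germ_eq d
    have h0 : X.presheaf.germ (D ⊓ W) z ⟨hzD, hz⟩ (resR (inf_le_left : D ⊓ W ≤ D) d * resR inf_le_right b) =
        X.presheaf.germ (D ⊓ W) z ⟨hzD, hz⟩ 0 := by
      rw [map_mul, map_zero]
      simp only [resR]
      erw [X.presheaf.germ_res_apply, X.presheaf.germ_res_apply]
      exact hd
    obtain ⟨D', hzD', i, _, hi⟩ := X.presheaf.germ_eq z _ _ _ _ h0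
    have hD'D : D' ≤ D := i.le.trans inf_le_left
    have hD'W : D' ≤ W := i.le.trans inf_le_right
    have h1 : resR hD'D d * resR hD'W b = 0 := by
      have := hi.trans (map_zero _)
      rw [map_mul] at this
      simp only [resR] at this ⊢
      rw [← ConcreteCategory.comp_apply, ← X.presheaf.map_comp, ← ConcreteCategory.comp_apply,
        ← X.presheaf.map_comp] at this
      exact this
    have h2 := congrArg ((f.fiberι c.η).app D') h1
    have hu : IsUnit ((f.fiberι c.η).app D' (resR hD'W b)) := by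
      have : (f.fiberι c.η).app D' (resR hD'W b) =
          (f.fiber c.η).presheaf.map (homOfLE ((f.fiberι c.η).preimage_mono hD'W)).op ((f.fiberι c.η).app W b) :=
        ConcreteCategory.congr_hom ((f.fiberι c.η).naturality (homOfLE hD'W).op) b
      rw [this]
      exact hbu.map _
    rw [map_mul, map_zero] at h2
    have h3 : resR hD'D d = 0 :=
      app_injective f c hY (hD'W.trans hWV) ((hu.mul_left_eq_zero.1 h2).trans (map_zero _).symm)
    rw [← X.presheaf.germ_res_apply (homOfLE hD'D) z hzD' d]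
    exact (congrArg _ h3).trans (map_zero _)
  let a : ∀ z : (W : Scheme.{u}), (W : Scheme.{u}).presheaf.stalk z := fun z =>
    (W.ι.stalkMap z).hom (X.presheaf.germ W (W.ι z) z.2 b)
  let xW : (W : Scheme.{u}) := ⟨x, hxW⟩
  obtain ⟨(g : Y.presheaf.stalk (f x)), hg, ε, hε, hgε⟩ := exists_base_generator (W.ι ≫ f) hY
    (fun y hy => by haveI := hfib y hy; exact isEmpty_or_isIntegral_fibre f W y) a
    (fun z => by
      obtain ⟨_, ⟨A, hA, rfl⟩, hzA, -⟩ :=
        (W : Scheme.{u}).isBasis_affineOpens.exists_subset_of_mem_open (Set.mem_univ z) isOpen_univ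
      refine ⟨⟨A, hA⟩, (W : Scheme.{u}).presheaf.map (homOfLE (fun t _ => t.2 : A ≤ W.ι ⁻¹ᵁ W)).op (W.ι.app W b), hzA,
        fun t ht => ?_⟩
      rw [TopCat.Presheaf.germ_res_apply]
      exact W.ι.germ_stalkMap_apply W t t.2 b)
    (fun z => mem_nonZeroDivisors_iff_right.2 fun d hd => by
      have hbij := ConcreteCategory.bijective_of_isIso (W.ι.stalkMap z)
      obtain ⟨d, rfl⟩ := hbij.2 d
      have h1 : d * X.presheaf.germ W (W.ι z) z.2 b = 0 := hbij.1 (by rw [map_mul, map_zero]; exact hd)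
      exact (congrArg _ (mem_nonZeroDivisors_iff_right.1 (hnzd _ z.2) d h1)).trans (map_zero _))
    (fun z hz => by
      refine IsUnit.map _ ?_
      have hη : f (W.ι z) = c.η := (hz c.η (c.gen _ (hWV z.2))).symm
      obtain ⟨w, hw⟩ : W.ι z ∈ Set.range (f.fiberι c.η) := by rw [Scheme.Hom.range_fiberι]; exact hη
      have key : ∀ {t t' : X} (e : t' = t) (ht : t ∈ W) (ht' : t' ∈ W),
          IsUnit (X.presheaf.germ W t' ht' b) → IsUnit (X.presheaf.germ W t ht b) := by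
        rintro t t' rfl ht ht' hu; exact hu
      have hwW : f.fiberι c.η w ∈ W := hw ▸ z.2
      refine key hw _ hwW ?_
      refine isUnit_of_map_unit ((f.fiberι c.η).stalkMap w).hom _ ?_
      erw [(f.fiberι c.η).germ_stalkMap_apply W w hwW b]
      exact hbu.map _) xW
  obtain ⟨(ε : X.presheaf.stalk x), rfl⟩ := (ConcreteCategory.bijective_of_isIso (W.ι.stalkMap xW)).2 ε
  have hεu : IsUnit ε := isUnit_of_map_unit (W.ι.stalkMap xW).hom _ hε
  have hgε' : X.presheaf.germ W x hxW b = (f.stalkMap x).hom g * ε := by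
    refine (ConcreteCategory.bijective_of_isIso (W.ι.stalkMap xW)).1 ?_
    rw [map_mul]
    refine hgε.trans ?_
    rw [Scheme.Hom.stalkMap_comp]
    rfl
  letI := TopCat.Presheaf.algebra_section_stalk Y.presheaf (⟨f x, hx⟩ : c.V)
  haveI := c.aff.isLocalization_stalk ⟨f x, hx⟩
  obtain ⟨⟨p₁, p₂⟩, hp⟩ := IsLocalization.surj (c.aff.primeIdealOf ⟨f x, hx⟩).asIdeal.primeCompl g
  haveI := (hY (f x)).1
  have hp₂ : IsUnit (Y.presheaf.germ c.V (f x) hx p₂.1) := IsLocalization.map_units (Y.presheaf.stalk (f x)) p₂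
  have hp₂0 : p₂.1 ≠ 0 := fun h0 => hp₂.ne_zero (by rw [h0, map_zero])
  have hp' : g * Y.presheaf.germ c.V (f x) hx p₂.1 = Y.presheaf.germ c.V (f x) hx p₁ := hp
  have hp₁0 : p₁ ≠ 0 := fun h0 => by
    rw [h0, map_zero] at hp'
    exact nonZeroDivisors.ne_zero hg (hp₂.mul_left_eq_zero.1 hp')
  obtain ⟨E, hxE, εs, hεs⟩ := X.presheaf.exists_germ_eq ε
  let O₀ : X.Opens := E ⊓ W
  have hxO₀ : x ∈ O₀ := ⟨hxE, hxW⟩
  let ε₀ := resR (inf_le_left : O₀ ≤ E) εs
  have hε₀ : X.presheaf.germ O₀ x hxO₀ ε₀ = ε := (X.presheaf.germ_res_apply _ _ _ _).trans hεs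
  have hφ : ∀ r : Γ(Y, c.V), X.presheaf.germ O₀ x hxO₀ (f.appLE c.V O₀ (inf_le_right.trans hWV) r) =
      (f.stalkMap x).hom (Y.presheaf.germ c.V (f x) hx r) := fun r => by
    rw [Scheme.Hom.appLE, ConcreteCategory.comp_apply, X.presheaf.germ_res_apply]
    exact (f.germ_stalkMap_apply c.V x hx r).symm
  have hgerm : X.presheaf.germ O₀ x hxO₀ (f.appLE c.V O₀ (inf_le_right.trans hWV) p₂.1 * resR inf_le_right b) =
      X.presheaf.germ O₀ x hxO₀ (f.appLE c.V O₀ (inf_le_right.trans hWV) p₁ * ε₀) := by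
    rw [map_mul, map_mul, hφ, hφ, hε₀, ← hp', map_mul]
    simp only [resR]
    erw [X.presheaf.germ_res_apply]
    rw [hgε']
    ring
  obtain ⟨O₁, hxO₁, i, _, hi⟩ := X.presheaf.germ_eq x _ _ _ _ hgerm
  let ε₁ := resR i.le ε₀
  let O₂ : X.Opens := X.basicOpen ε₁
  have hxO₂ : x ∈ O₂ := (X.mem_basicOpen ε₁ x hxO₁).2 (by
    simp only [ε₁, resR]
    erw [X.presheaf.germ_res_apply, hε₀]
    exact hεu)
  have hO₂ : O₂ ≤ O₀ := (X.basicOpen_le ε₁).trans i.le
  have hO₂W : O₂ ≤ W := hO₂.trans inf_le_right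
  have hu₂ : IsUnit (resR hO₂ ε₀) := by
    rw [show resR hO₂ ε₀ = resR (X.basicOpen_le ε₁) ε₁ from (resR_resR _ _ _).symm]
    exact isUnit_resR _ _ le_rfl
  have heq : resR hO₂ (f.appLE c.V O₀ (inf_le_right.trans hWV) p₂.1 * resR inf_le_right b) =
      resR hO₂ (f.appLE c.V O₀ (inf_le_right.trans hWV) p₁ * ε₀) := by
    have := congrArg (resR (X.basicOpen_le ε₁)) (show resR i.le _ = resR i.le _ from hi)
    rw [resR_resR, resR_resR] at this
    exact this
  refine ⟨p₂.1 * r, p₁, mul_ne_zero hp₂0 hr0, hp₁0, O₂, hO₂W.trans hWV, resR hO₂ ε₀ • res L hO₂W e, hxO₂,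
    (he.res _).isUnit_smul hu₂, ?_⟩
  have happ : ∀ s, resR hO₂ (f.appLE c.V O₀ (inf_le_right.trans hWV) s) = f.appLE c.V O₂ (hO₂W.trans hWV) s :=
    fun s => ConcreteCategory.congr_hom (f.appLE_map (inf_le_right.trans hWV) (homOfLE hO₂).op) s
  rw [map_mul, map_mul, happ, happ, resR_resR] at heq
  have h2 := congrArg ((f.fiberι c.η).app O₂) heq
  rw [map_mul, map_mul] at h2
  have hnat : (f.fiberι c.η).app O₂ (resR hO₂W b) =
      (f.fiber c.η).presheaf.map (homOfLE ((f.fiberι c.η).preimage_mono hO₂W)).op ((f.fiberι c.η).app W b) :=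
    ConcreteCategory.congr_hom ((f.fiberι c.η).naturality (homOfLE hO₂W).op) b
  show K f c _ p₁ * psi T (resR hO₂ ε₀ • res L hO₂W e) = K f c _ (p₂.1 * r)
  rw [psi_smul, ← mul_assoc, map_mul]
  simp only [K_apply] at h2 ⊢
  rw [← h2, hnat, psi_res, mul_assoc, ← map_mul, hrel, res_K f c hO₂W, K_apply]

end Groth.Agent.InvDescN
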