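import Groth.Agent.InvDescN.Core

/-!
# The ratio against the trivialisation depends only on the image point
-/

set_option autoImplicit false
set_option backward.isDefEq.respectTransparency false
set_option backward.isDefEq.respectTransparency.types false

universe u

open CategoryTheory CategoryTheory.Limits AlgebraicGeometry TopologicalSpace IsLocalRing

noncomputable section

namespace Groth.Agent.InvDescN

open Groth.Agent InvX AModX

variable {X Y : Scheme.{u}} {f : X ⟶ Y} [Flat f] {c : Chart Y} {L : X.Modules} (T : Triv f c L)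
  (hY : Pi1.IsNormalScheme Y) (hL : PicF.IsInvertible L)
  (hfib : ∀ y : Y, ringKrullDim (Y.presheaf.stalk y) = 1 → IsIntegral (f.fiber y))

omit [Flat f] in
theorem mem_span_of_mul_eq {B : Type u} [CommRing B] {a b ε : B} (hε : IsUnit ε) (h : a * ε = b) :
    Ideal.span {a} = Ideal.span {b} := by
  rw [← h, Ideal.span_singleton_mul_right_unit hε]

include hY hL hfib in
/-- Frames with ratio from the base over two points with the same image agree up to units of the base. -/
theorem good_of_good [IsLocallyNoetherian X] [IsLocallyNoetherian Y] {p q p' q' : Γ(Y, c.V)}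
    (hp : p ≠ 0) (hq : q ≠ 0) (hp' : p' ≠ 0) (hq' : q' ≠ 0) {x x' : X} (e : f x' = f x)
    (h : Good T p q x) (h' : Good T p' q' x') : Good T p q x' := by
  haveI := c.dom
  obtain ⟨O, hO, τ, hxO, hτ, hrel⟩ := h
  obtain ⟨O', hO', τ', hxO', hτ', hrel'⟩ := h'
  let J : X.Opens := O ⊓ O'
  have hJ : J ≤ f ⁻¹ᵁ c.V := inf_le_left.trans hO
  obtain ⟨ε, hε⟩ := (hτ.res (inf_le_left : J ≤ O)).exists_coord le_rfl (res L (inf_le_right : J ≤ O') τ')
  obtain ⟨δ, hδ⟩ := (hτ'.res (inf_le_right : J ≤ O')).exists_coord le_rfl (res L (inf_le_left : J ≤ O) τ)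
  simp only [res_self] at hε hδ
  have hεu : IsUnit ε := by
    refine IsUnit.of_mul_eq_one δ ((hτ.res (inf_le_left : J ≤ O)).coord_unique le_rfl ?_)
    simp only [res_self]
    rw [mul_comm, mul_smul, ← hε, ← hδ, one_smul]
  have key : f.appLE c.V J hJ (p * q') * ε = f.appLE c.V J hJ (q * p') := by
    refine (hτ.res (inf_le_left : J ≤ O)).coord_unique le_rfl ?_
    simp only [res_self]
    rw [mul_smul, ← hε]
    refine psi_injective T hY hL hJ ?_
    rw [psi_smul, psi_smul, ← K_apply, ← K_apply, map_mul, map_mul]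
    have h1 := hrel.res T (inf_le_left : J ≤ O)
    have h2 := hrel'.res T (inf_le_right : J ≤ O')
    unfold Rel at h1 h2
    rw [mul_assoc, h2, mul_comm (K f c hJ q), mul_assoc, h1, mul_comm]
  have hspan : ∀ (w : X) (hw : w ∈ J), Ideal.span {Y.presheaf.germ c.V (f w) (hJ hw) (p * q')} =
      Ideal.span {Y.presheaf.germ c.V (f w) (hJ hw) (q * p')} := fun w hw => by
    have h1 := congrArg (X.presheaf.germ J w hw) key
    have hφ : ∀ r : Γ(Y, c.V), X.presheaf.germ J w hw (f.appLE c.V J hJ r) =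
        (f.stalkMap w).hom (Y.presheaf.germ c.V (f w) (hJ hw) r) := fun r => by
      rw [Scheme.Hom.appLE, ConcreteCategory.comp_apply, X.presheaf.germ_res_apply]
      exact (f.germ_stalkMap_apply c.V w (hJ hw) r).symm
    rw [map_mul, hφ, hφ] at h1
    have h2 := congrArg (Ideal.comap (f.stalkMap w).hom)
      (show (Ideal.span {Y.presheaf.germ c.V (f w) (hJ hw) (p * q')}).map (f.stalkMap w).hom =
        (Ideal.span {Y.presheaf.germ c.V (f w) (hJ hw) (q * p')}).map (f.stalkMap w).hom by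
          rw [Ideal.map_span, Ideal.map_span, Set.image_singleton, Set.image_singleton]
          exact mem_span_of_mul_eq (hεu.map _) h1)
    rwa [H23.CartierFlatDesc.comap_map_stalkMap, H23.CartierFlatDesc.comap_map_stalkMap] at h2
  haveI := (hY (f x')).1
  haveI := (hY (f x')).2
  have hyV : f x' ∈ c.V := hO' hxO'
  have hd0 : Y.presheaf.germ c.V (f x') hyV (q * p') ≠ 0 := c.germ_ne_zero hyV (mul_ne_zero hq hp')
  have hmem : ∀ a b : Γ(Y, c.V), b ≠ 0 →
      (∀ (w : X) (hw : w ∈ J), Y.presheaf.germ c.V (f w) (hJ hw) a ∈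
        Ideal.span {Y.presheaf.germ c.V (f w) (hJ hw) b}) →
      Y.presheaf.germ c.V (f x') hyV a ∈ Ideal.span {Y.presheaf.germ c.V (f x') hyV b} := by
    intro a b hb hab
    refine H23.CartierFlatDescAlg.mem_of_forall_ass _ _ fun P hP => ?_
    haveI : P.IsPrime := IsAssociatedPrime.isPrime (AssociatedPrimes.mem_iff.1 hP)
    obtain ⟨z, hz, rfl⟩ := H23.StalkPrimes.exists_point (X := Y) P
    letI := (Y.presheaf.stalkSpecializes hz).hom.toAlgebra
    haveI := H23.StalkPrimes.isLocalization_primeOf hz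
    have hzV : z ∈ c.V := hz.mem_open c.V.isOpen hyV
    have hd := H23.CartierFlatDescAlg.depth_le_one_of_ass
      (mem_nonZeroDivisors_iff_ne_zero.2 (c.germ_ne_zero hyV hb)) hP (Y.presheaf.stalk z)
    refine (IsLocalization.algebraMap_mem_map_algebraMap_iff (CDiv6.primeOf hz).asIdeal.primeCompl
      (Y.presheaf.stalk z) _ _).1 ?_
    show (Y.presheaf.stalkSpecializes hz).hom _ ∈ (Ideal.span {_}).map (Y.presheaf.stalkSpecializes hz).hom
    rw [Ideal.map_span, Set.image_singleton]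
    show Y.presheaf.stalkSpecializes hz (Y.presheaf.germ c.V (f x') hyV a) ∈
      Ideal.span {Y.presheaf.stalkSpecializes hz (Y.presheaf.germ c.V (f x') hyV b)}
    rw [TopCat.Presheaf.germ_stalkSpecializes_apply, TopCat.Presheaf.germ_stalkSpecializes_apply]
    rcases H23.CartierFlatNormal.depth_cases hY hd with hm | ⟨_, _, hdim⟩
    · obtain rfl : c.η = z := hm _ (c.gen z hzV)
      rw [Ideal.span_singleton_eq_top.2 (c.isUnit_germ hY hb)]
      exact Submodule.mem_top
    · haveI := hfib z hdim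
      obtain ⟨x₁, hx₁, hfx₁⟩ := Flat.generalizingMap f (a := x) (b := z) (e ▸ hz)
      obtain ⟨x₂, hx₂, hfx₂⟩ := Flat.generalizingMap f (a := x') (b := z) hz
      obtain ⟨w₁, hw₁⟩ : x₁ ∈ Set.range (f.fiberι z) := by rw [Scheme.Hom.range_fiberι]; exact hfx₁
      obtain ⟨w₂, hw₂⟩ : x₂ ∈ Set.range (f.fiberι z) := by rw [Scheme.Hom.range_fiberι]; exact hfx₂
      let w₀ : ↥(f.fiber z) := genericPoint ↥(f.fiber z)
      have hw : f.fiberι z w₀ ∈ J :=
        ⟨((genericPoint_specializes w₁).map (f.fiberι z).continuous).mem_open O.isOpen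
            (hw₁ ▸ (show x₁ ⤳ x from hx₁).mem_open O.isOpen hxO),
          ((genericPoint_specializes w₂).map (f.fiberι z).continuous).mem_open O'.isOpen
            (hw₂ ▸ (show x₂ ⤳ x' from hx₂).mem_open O'.isOpen hxO')⟩
      have key2 : ∀ {t t' : Y} (et : t' = t) (ht : t ∈ c.V) (ht' : t' ∈ c.V),
          Y.presheaf.germ c.V t' ht' a ∈ Ideal.span {Y.presheaf.germ c.V t' ht' b} →
          Y.presheaf.germ c.V t ht a ∈ Ideal.span {Y.presheaf.germ c.V t ht b} := by
        rintro t t' rfl ht ht' hh; exact hh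
      exact key2 (FlatDvr.fiberι_apply_eq f w₀) hzV _ (hab _ hw)
  obtain ⟨v, hv⟩ := Ideal.mem_span_singleton'.1 (hmem (p * q') (q * p') (mul_ne_zero hq hp')
    fun w hw => (hspan w hw).le (Ideal.mem_span_singleton_self _))
  have hvu : IsUnit v := by
    have hc0 : p * q' ≠ 0 := mul_ne_zero hp hq'
    obtain ⟨v', hv'⟩ := Ideal.mem_span_singleton'.1 (hmem (q * p') (p * q') hc0
      fun w hw => (hspan w hw).ge (Ideal.mem_span_singleton_self _))
    refine IsUnit.of_mul_eq_one v' (mul_right_cancel₀ (c.germ_ne_zero hyV hc0) ?_)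
    rw [one_mul, mul_assoc, hv', hv]
  obtain ⟨E, hyE, v, rfl⟩ := Y.presheaf.exists_germ_eq v
  let E₀ : Y.Opens := E ⊓ c.V
  have hyE₀ : f x' ∈ E₀ := ⟨hyE, hyV⟩
  let r {U : Y.Opens} (h : E₀ ≤ U) := Y.presheaf.map (homOfLE h).op
  have hgerm : Y.presheaf.germ E₀ (f x') hyE₀ (r inf_le_left v * r inf_le_right (q * p')) =
      Y.presheaf.germ E₀ (f x') hyE₀ (r inf_le_right (p * q')) := by
    rw [map_mul]
    simp only [r]
    rw [Y.presheaf.germ_res_apply, Y.presheaf.germ_res_apply, Y.presheaf.germ_res_apply]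
    exact hv
  obtain ⟨E₁, hyE₁, i, i', hi⟩ := Y.presheaf.germ_eq (f x') _ _ _ _ hgerm
  obtain rfl : i = i' := Subsingleton.elim _ _
  let v₁ := Y.presheaf.map (homOfLE (i.le.trans inf_le_left : E₁ ≤ E)).op v
  let E₂ : Y.Opens := Y.basicOpen v₁
  have hyE₂ : f x' ∈ E₂ := (Y.mem_basicOpen v₁ (f x') hyE₁).2 (by
    simp only [v₁]; rw [Y.presheaf.germ_res_apply]; exact hvu)
  have hE₂E : E₂ ≤ E := (Y.basicOpen_le v₁).trans (i.le.trans inf_le_left)
  have hE₂V : E₂ ≤ c.V := (Y.basicOpen_le v₁).trans (i.le.trans inf_le_right)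
  let v₂ := Y.presheaf.map (homOfLE hE₂E).op v
  have hv₂u : IsUnit v₂ := by
    have : v₂ = Y.presheaf.map (homOfLE (Y.basicOpen_le v₁)).op v₁ := by
      simp only [v₂, v₁]
      rw [← ConcreteCategory.comp_apply, ← Y.presheaf.map_comp]
      rfl
    rw [this]
    exact RingedSpace.isUnit_res_basicOpen Y.toRingedSpace v₁
  have hveq : v₂ * Y.presheaf.map (homOfLE hE₂V).op (q * p') = Y.presheaf.map (homOfLE hE₂V).op (p * q') := by
    have := congrArg (Y.presheaf.map (homOfLE (Y.basicOpen_le v₁)).op) hi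
    simp only [map_mul, r, ← ConcreteCategory.comp_apply, ← Y.presheaf.map_comp] at this
    simp only [map_mul, v₂]
    exact this
  let O₂ : X.Opens := O' ⊓ f ⁻¹ᵁ E₂
  have hO₂E : O₂ ≤ f ⁻¹ᵁ E₂ := inf_le_right
  refine ⟨O₂, inf_le_left.trans hO', f.appLE E₂ O₂ hO₂E v₂ • res L inf_le_left τ', ⟨hxO', hyE₂⟩,
    (hτ'.res _).isUnit_smul (hv₂u.map _), ?_⟩
  have h2 := hrel'.res T (inf_le_left : O₂ ≤ O')
  unfold Rel at h2 ⊢
  rw [psi_smul, ← K_apply]
  refine (isUnit_K_chart f c hY (inf_le_left.trans hO' : O₂ ≤ f ⁻¹ᵁ c.V) hp').mul_left_cancel ?_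
  have h3 := congrArg (K f c hO₂E) hveq
  rw [map_mul (K f c hO₂E), K_res, K_res] at h3
  calc K f c _ p' * (K f c _ q * (K f c hO₂E v₂ * psi T (res L inf_le_left τ')))
      = (K f c hO₂E v₂ * K f c (inf_le_left.trans hO') (q * p')) * psi T (res L inf_le_left τ') := by
        rw [map_mul]; ring
    _ = K f c (inf_le_left.trans hO') p * (K f c (inf_le_left.trans hO') q' * psi T (res L inf_le_left τ')) := by
        rw [show K f c hO₂E v₂ = K f c (hO₂E.trans (f.preimage_mono hE₂E)) v from K_res f c hE₂E hO₂E v, h3]; simp only [map_mul, K_res]; ring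
    _ = _ := by rw [h2]; ring

end Groth.Agent.InvDescN
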