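import Groth.Agent.InvDescN.Chart
import Groth.Agent.InvX.Pullback
import Groth.Agent.InvX.Tensor

/-!
# Sections with a prescribed ratio against a trivialisation on the generic fibre
-/

set_option autoImplicit false
set_option backward.isDefEq.respectTransparency false
set_option backward.isDefEq.respectTransparency.types false

universe u

open CategoryTheory CategoryTheory.Limits AlgebraicGeometry TopologicalSpace

noncomputable section

namespace Groth.Agent.InvDescN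

open Groth.Agent InvX AModX

variable {X Y : Scheme.{u}} {f : X ⟶ Y} {c : Chart Y} {L : X.Modules}

/-- A trivialisation over the generic point of a chart. -/
abbrev Triv (f : X ⟶ Y) (c : Chart Y) (L : X.Modules) :=
  (Scheme.Modules.pullback (f.fiberι c.η)).obj L ≅ Coh.structureModule (f.fiber c.η)

/-- A section seen as a function on the generic fibre. -/
def psi (T : Triv f c L) {O : X.Opens} (σ : Γ(L, O)) : Γ(f.fiber c.η, f.fiberι c.η ⁻¹ᵁ O) :=
  T.hom.app (f.fiberι c.η ⁻¹ᵁ O) (pullElt (f.fiberι c.η) σ)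

variable (T : Triv f c L)

theorem psi_zero (O : X.Opens) : psi T (0 : Γ(L, O)) = 0 := by
  show T.hom.app _ (((Scheme.Modules.pullbackPushforwardAdjunction (f.fiberι c.η)).unit.app L).app O 0) = _
  rw [map_zero]
  exact map_zero (T.hom.app _).hom

theorem psi_add {O : X.Opens} (σ τ : Γ(L, O)) : psi T (σ + τ) = psi T σ + psi T τ := by
  show T.hom.app _ (((Scheme.Modules.pullbackPushforwardAdjunction (f.fiberι c.η)).unit.app L).app O (σ + τ)) = _
  rw [map_add]
  exact map_add (T.hom.app _).hom _ _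

theorem psi_smul {O : X.Opens} (a : Γ(X, O)) (σ : Γ(L, O)) :
    psi T (a • σ) = (f.fiberι c.η).app O a * psi T σ := by
  have h : pullElt (f.fiberι c.η) (a • σ) = (f.fiberι c.η).app O a • pullElt (f.fiberι c.η) σ :=
    Scheme.Modules.Hom.app_smul ((Scheme.Modules.pullbackPushforwardAdjunction (f.fiberι c.η)).unit.app L) a σ
  show T.hom.app _ (pullElt (f.fiberι c.η) (a • σ)) = _
  rw [h, Scheme.Modules.Hom.app_smul]
  rfl

theorem psi_res {O O' : X.Opens} (i : O' ≤ O) (σ : Γ(L, O)) :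
    psi T (res L i σ) = (f.fiber c.η).presheaf.map (homOfLE ((f.fiberι c.η).preimage_mono i)).op (psi T σ) := by
  have h : pullElt (f.fiberι c.η) (res L i σ) =
      res _ ((f.fiberι c.η).preimage_mono i) (pullElt (f.fiberι c.η) σ) :=
    app_res ((Scheme.Modules.pullbackPushforwardAdjunction (f.fiberι c.η)).unit.app L) i σ
  show T.hom.app _ (pullElt (f.fiberι c.η) (res L i σ)) = _
  rw [h, app_res]
  rfl

theorem isUnit_psi {O : X.Opens} {e : Γ(L, O)} (he : IsFrame e) : IsUnit (psi T e) := by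
  have h1 := (isFrame_pullElt (f.fiberι c.η) he)
  obtain ⟨r, hr⟩ := (h1 _ le_rfl).2 (T.inv.app _ (show Γ(Coh.structureModule (f.fiber c.η), _) from
    (1 : Γ(f.fiber c.η, f.fiberι c.η ⁻¹ᵁ O))))
  have h2 := congrArg (T.hom.app (f.fiberι c.η ⁻¹ᵁ O)) hr
  simp only [res_self, Scheme.Modules.Hom.app_smul] at h2
  refine IsUnit.of_mul_eq_one (a := psi T e) r ?_
  rw [mul_comm]
  refine h2.trans ?_
  show ((T.inv ≫ T.hom).app (f.fiberι c.η ⁻¹ᵁ O)) _ = _
  rw [T.inv_hom_id]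
  rfl

variable (hY : Pi1.IsNormalScheme Y) [Flat f] (hL : PicF.IsInvertible L)

include hY hL in
/-- Sections over the chart are determined on the generic fibre. -/
theorem psi_injective {O : X.Opens} (hO : O ≤ f ⁻¹ᵁ c.V) : Function.Injective (psi T (O := O)) := by
  intro σ τ h
  refine eq_of_locally σ τ fun p hp => ?_
  obtain ⟨U, hpU, e, he⟩ := InvX.exists_frame hL p
  refine ⟨O ⊓ U, inf_le_left, ⟨hp, hpU⟩, ?_⟩
  obtain ⟨a, ha⟩ := he.exists_coord inf_le_right (res L (inf_le_left : O ⊓ U ≤ O) σ)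
  obtain ⟨b, hb⟩ := he.exists_coord inf_le_right (res L (inf_le_left : O ⊓ U ≤ O) τ)
  have h1 : psi T (res L (inf_le_left : O ⊓ U ≤ O) σ) = psi T (res L (inf_le_left : O ⊓ U ≤ O) τ) := by
    rw [psi_res, psi_res, h]
  rw [ha, hb, psi_smul, psi_smul] at h1
  rw [ha, hb, app_injective f c hY (inf_le_left.trans hO) ((isUnit_psi T (he.res inf_le_right)).mul_right_cancel h1)]

/-- The section `τ` has ratio `p / q` against the trivialisation. -/
def Rel (p q : Γ(Y, c.V)) {O : X.Opens} (hO : O ≤ f ⁻¹ᵁ c.V) (τ : Γ(L, O)) : Prop :=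
  K f c hO q * psi T τ = K f c hO p

theorem Rel.res {p q : Γ(Y, c.V)} {O O' : X.Opens} {hO : O ≤ f ⁻¹ᵁ c.V} {τ : Γ(L, O)} (h : Rel T p q hO τ)
    (i : O' ≤ O) : Rel T p q (i.trans hO) (res L i τ) := by
  unfold Rel
  rw [psi_res, ← res_K f c i hO q, ← res_K f c i hO p, ← map_mul]
  exact congrArg _ h

include hY hL in
theorem Rel.unique {p q : Γ(Y, c.V)} (hq : q ≠ 0) {O : X.Opens} {hO : O ≤ f ⁻¹ᵁ c.V} {τ τ' : Γ(L, O)}
    (h : Rel T p q hO τ) (h' : Rel T p q hO τ') : τ = τ' :=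
  psi_injective T hY hL hO ((isUnit_K_chart f c hY hO hq).mul_left_cancel (h.trans h'.symm))

/-- Near `x` some frame has ratio `p / q`. -/
def Good (p q : Γ(Y, c.V)) (x : X) : Prop :=
  ∃ (O : X.Opens) (hO : O ≤ f ⁻¹ᵁ c.V) (τ : Γ(L, O)), x ∈ O ∧ IsFrame τ ∧ Rel T p q hO τ

theorem isOpen_good (p q : Γ(Y, c.V)) : IsOpen {x | Good T p q x} :=
  isOpen_iff_forall_mem_open.2 fun _ ⟨O, hO, τ, hx, hτ, hrel⟩ =>
    ⟨O, fun _ hz => ⟨O, hO, τ, hz, hτ, hrel⟩, O.isOpen, hx⟩

/-- A section which is locally a frame is a frame. -/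
theorem isFrame_of_locally {M : X.Modules} {U : X.Opens} (e : Γ(M, U))
    (h : ∀ x ∈ U, ∃ (O : X.Opens) (i : O ≤ U), x ∈ O ∧ IsFrame (AModX.res M i e)) : IsFrame e := by
  intro V hV
  choose O i hxO hO using h
  have hcov : ∀ x ∈ V, ∃ a : U, x ∈ V ⊓ O a.1 a.2 := fun x hx => ⟨⟨x, hV hx⟩, hx, hxO x (hV hx)⟩
  constructor
  · intro r r' hrr
    refine TopCat.Sheaf.eq_of_locally_eq' X.sheaf (fun a : U => V ⊓ O a.1 a.2) V (fun _ => homOfLE inf_le_left)
      (fun x hx => Opens.mem_iSup.2 (hcov x hx)) r r' fun a => ?_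
    refine (hO a.1 a.2).coord_unique (inf_le_right : V ⊓ O a.1 a.2 ≤ O a.1 a.2) ?_
    have h1 := congrArg (AModX.res M (inf_le_left : V ⊓ O a.1 a.2 ≤ V)) hrr
    simp only [res_smul, res_res] at h1 ⊢
    exact h1
  · intro m
    choose g hg using fun a : U => (hO a.1 a.2).exists_coord (inf_le_right : V ⊓ O a.1 a.2 ≤ O a.1 a.2)
      (AModX.res M (inf_le_left : V ⊓ O a.1 a.2 ≤ V) m)
    obtain ⟨r, hr, -⟩ := TopCat.Sheaf.existsUnique_gluing' X.sheaf (fun a : U => V ⊓ O a.1 a.2) V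
      (fun _ => homOfLE inf_le_left) (fun x hx => Opens.mem_iSup.2 (hcov x hx)) g fun a b => by
        let W := (V ⊓ O a.1 a.2) ⊓ (V ⊓ O b.1 b.2)
        show resR (inf_le_left : W ≤ _) (g a) = resR (inf_le_right : W ≤ _) (g b)
        refine (hO a.1 a.2).coord_unique (inf_le_left.trans inf_le_right) ?_
        have h1 := congrArg (AModX.res M (inf_le_left : W ≤ V ⊓ O a.1 a.2)) (hg a)
        have h2 := congrArg (AModX.res M (inf_le_right : W ≤ V ⊓ O b.1 b.2)) (hg b)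
        simp only [res_smul, res_res] at h1 h2 ⊢
        exact h1.symm.trans h2
    refine ⟨r, eq_of_locally _ _ fun x hx => ?_⟩
    obtain ⟨a, ha⟩ := hcov x hx
    refine ⟨_, inf_le_left, ha, ?_⟩
    have h1 : resR (inf_le_left : V ⊓ O a.1 a.2 ≤ V) r = g a := hr a
    rw [hg a]
    simp only [res_smul, res_res, h1]

include hY hL in
/-- Good points glue to a frame. -/
theorem exists_glue {p q : Γ(Y, c.V)} (hq : q ≠ 0) {O : X.Opens} (hO : O ≤ f ⁻¹ᵁ c.V)
    (h : ∀ x ∈ O, Good T p q x) : ∃ τ : Γ(L, O), IsFrame τ ∧ Rel T p q hO τ := by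
  choose W hW σ hxW hσ hrel using h
  obtain ⟨τ, hτ, -⟩ := existsUnique_glue (M := L) (V := O) (fun a : O => O ⊓ W a.1 a.2) (fun _ => inf_le_left)
    (fun x hx => ⟨⟨x, hx⟩, hx, hxW x hx⟩) (fun a => AModX.res L inf_le_right (σ a.1 a.2)) fun a b => by
      rw [res_res, res_res]
      exact Rel.unique T hY hL hq ((hrel a.1 a.2).res T _) ((hrel b.1 b.2).res T _)
  refine ⟨τ, isFrame_of_locally τ fun x hx => ⟨_, inf_le_left, ⟨hx, hxW x hx⟩, ?_⟩, ?_⟩
  · rw [hτ ⟨x, hx⟩]
    exact (hσ x hx).res _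
  · unfold Rel
    refine TopCat.Sheaf.eq_of_locally_eq' (f.fiber c.η).sheaf (fun a : O => f.fiberι c.η ⁻¹ᵁ (O ⊓ W a.1 a.2))
      (f.fiberι c.η ⁻¹ᵁ O) (fun _ => homOfLE ((f.fiberι c.η).preimage_mono inf_le_left))
      (fun w hw => Opens.mem_iSup.2 ⟨⟨_, hw⟩, hw, hxW _ hw⟩) _ _ fun a => ?_
    show (f.fiber c.η).presheaf.map _ (K f c hO q * psi T τ) = (f.fiber c.η).presheaf.map _ (K f c hO p)
    rw [map_mul, res_K f c inf_le_left, res_K f c inf_le_left, ← psi_res T inf_le_left τ, hτ a]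
    exact (hrel a.1 a.2).res T inf_le_right

end Groth.Agent.InvDescN
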